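import Mathlib
import Cfsg.Agent.Lib.Fus4.Two
import Cfsg.Agent.Lib.Fus2.Base

/-!
Averaging over the cosets of a Sylow subgroup which has order `p` modulo a normal subgroup.
-/

set_option autoImplicit false
set_option linter.unusedSectionVars false

namespace CfsgLib.Fus5

open Subgroup Module CfsgLib.Fus2 CfsgLib.Fus4

variable {p : ℕ} [hp : Fact p.Prime] {a b d r : ℕ} {f f' : ℕ → ZMod p}

/-- The shift operator on sequences. -/
def sh (p : ℕ) : End (ZMod p) (ℕ → ZMod p) := LinearMap.funLeft (ZMod p) (ZMod p) Nat.succ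

/-- Sequences killed by `a` differences. -/
def PD (a : ℕ) (f : ℕ → ZMod p) : Prop := ((sh p - 1) ^ a) f = 0

theorem PD.mono (h : PD a f) (e : a ≤ b) : PD b f := by
  obtain ⟨c, rfl⟩ := Nat.exists_eq_add_of_le' e
  rw [PD, pow_add, End.mul_apply, h, map_zero]

theorem pd_succ : PD (a + 1) f ↔ PD a ((sh p - 1) f) := by rw [PD, pow_succ, End.mul_apply]; rfl

theorem PD.sh (h : PD a f) : PD a (sh p f) := by
  rw [PD, ← End.mul_apply, (((Commute.refl _).sub_left (Commute.one_left _)).pow_left a).eq,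
    End.mul_apply, h, map_zero]

theorem pd_mul (k : ℕ) : ∀ a b (f f' : ℕ → ZMod p), a + b = k + 1 → PD a f → PD b f' →
    PD k (f * f') := by
  induction k with
  | zero =>
    rintro (_ | a) b f f' e h h'
    · simp [PD, show f = 0 from h]
    · obtain rfl : b = 0 := by omega
      simp [PD, show f' = 0 from h']
  | succ k ih =>
    rintro (_ | a) (_ | b) f f' e h h'
    · omega
    · simp [PD, show f = 0 from h]
    · simp [PD, show f' = 0 from h']
    have : (Fus5.sh p - 1) (f * f') = (Fus5.sh p - 1) f * Fus5.sh p f' + f * (Fus5.sh p - 1) f' := by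
      ext i; simp [Fus5.sh, LinearMap.funLeft_apply]; ring
    rw [pd_succ, this, PD, map_add, ih _ _ _ _ (by omega) (pd_succ.1 h) h'.sh,
      ih _ _ _ _ (by omega) h (pd_succ.1 h'), add_zero]

theorem PD.pow (h : PD (a + 1) f) (r : ℕ) : PD (a * r + 1) (f ^ r) := by
  induction r with
  | zero => ext i; simp [Fus5.sh, LinearMap.funLeft_apply]
  | succ r ih => exact pow_succ f r ▸ pd_mul _ _ _ _ _ (by ring) ih h

theorem PD.sum (h : PD a f) (e : a + 1 ≤ p) : ∑ i : Fin p, f i = 0 := by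
  have h1 := congrFun (h.mono (b := p - 1) (by omega)) 0
  have h2 : ∀ i j, ((Fus5.sh p ^ i) f) j = f (j + i) := fun i => by
    induction i with
    | zero => simp
    | succ i ih => intro j; rw [pow_succ', End.mul_apply]; exact (ih _).trans (by congr 1; omega)
  rw [← geom_sum_char, LinearMap.sum_apply, Finset.sum_apply, Finset.sum_range] at h1
  simpa [h2] using h1

theorem pd_lin {V : Type*} [AddCommGroup V] [Module (ZMod p) V] (ξ : V →ₗ[ZMod p] ZMod p)
    {Z : End (ZMod p) V} {v : V} (h : ((Z - 1) ^ a) v = 0) : PD a fun i => ξ ((Z ^ i) v) := by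
  induction a generalizing v with
  | zero => ext i; simp [show v = 0 from h]
  | succ a ih =>
    rw [pow_succ, End.mul_apply] at h
    rw [pd_succ]
    convert ih h using 2
    simp [Fus5.sh, LinearMap.funLeft_apply, pow_succ]

variable {G : Type*} [Group G] [Finite G] {M P : Subgroup G} {s g : G}

/-- A Sylow subgroup of order `p` modulo a normal subgroup. -/
structure TI (p : ℕ) (M P : Subgroup G) (s : G) : Prop where
  nm : M.Normal
  pg : IsPGroup p P
  le : M ≤ P
  idx : M.relIndex P = p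
  mem : s ∈ P
  nmem : s ∉ M
  syl : ¬ p ∣ P.index

open _root_.Classical in
/-- The cosets fixed by the Sylow subgroup. -/
noncomputable def fx (P : Subgroup G) : Finset (G ⧸ P) :=
  have := Fintype.ofFinite (G ⧸ P)
  Finset.univ.filter fun x => x.out ∈ normalizer (P : Set G)

theorem mem_fx {x : G ⧸ P} : x ∈ fx P ↔ x.out ∈ normalizer (P : Set G) := by simp [fx]

theorem out_smul {A : Type*} {φ : G → A} (hφ : ∀ g, ∀ u ∈ P, φ (g * u) = φ g) (g : G) (x : G ⧸ P) :
    φ (g • x).out = φ (g * x.out) := by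
  obtain ⟨u, e⟩ := QuotientGroup.mk_out_eq_mul P (g * x.out)
  rw [← hφ (g * x.out) _ u.2, ← e, ← smul_eq_mul g, ← MulAction.Quotient.smul_mk, QuotientGroup.out_eq']

theorem sum_shift {A : Type*} [AddCommMonoid A] {φ : G → A} (hφ : ∀ g, ∀ u ∈ P, φ (g * u) = φ g)
    (g : G) : ∑ᶠ x : G ⧸ P, φ (g * x.out) = ∑ᶠ x : G ⧸ P, φ x.out :=
  finsum_eq_of_bijective (g • ·) (MulAction.bijective g) fun x => (out_smul hφ g x).symm

namespace TI

variable (h : TI p M P s)
include h

theorem norm {i : ℤ} (hi : ¬ (p : ℤ) ∣ i) (hg : g⁻¹ * s ^ i * g ∈ P) : g ∈ normalizer (P : Set G) := by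
  refine mem_normalizer_fintype fun x hx => ?_
  obtain ⟨a, ha, j, rfl⟩ := exists_eq_mul_zpow h.pg h.le h.idx hg (fun H => h.nmem
    (mem_of_zpow_mem (pg_zpowers h.pg h.mem) hi (by simpa [mul_assoc] using h.nm.conj_mem _ H g))) hx
  change _ ∈ P
  convert P.mul_mem (h.le (h.nm.conj_mem _ ha g)) (zpow_mem (zpow_mem h.mem i) j) using 1
  rw [show g⁻¹ * s ^ i * g = g⁻¹ * s ^ i * g⁻¹⁻¹ by simp, conj_zpow]
  group

theorem sum_free {A : Type*} [AddCommGroup A] (B : AddSubgroup A) {φ : G → A}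
    (hφ : ∀ g, ∀ u ∈ P, φ (g * u) = φ g) (H : ∀ g, ∑ i : Fin p, φ (s ^ (i : ℕ) * g) ∈ B) :
    ∑ᶠ x : G ⧸ P, φ x.out - ∑ x ∈ fx P, φ x.out ∈ B := by
  classical
  have := Fintype.ofFinite (G ⧸ P)
  have : NeZero p := ⟨hp.out.ne_zero⟩
  have c : ∀ (i : ℤ) (x : G ⧸ P), s ^ i • x = x ↔ x.out⁻¹ * s ^ i * x.out ∈ P := fun i x => by
    rw [eq_comm, ← x.out_eq', MulAction.Quotient.smul_mk, QuotientGroup.eq, x.out_eq', mul_assoc]; rfl
  have h1 : MulAction.toPermHom G (G ⧸ P) s ^ p = 1 := Equiv.ext fun x => by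
    rw [← map_pow, ← zpow_natCast]
    exact (c _ x).2 (h.le (h.nm.conj_mem' _ (by simpa using pow_mem_of_prime h.pg h.idx h.mem) _))
  rw [finsum_eq_sum_of_fintype, ← Finset.sum_sdiff_eq_sub (Finset.subset_univ _)]
  refine sum_mem_of_free B (fun i : Fin p => MulAction.toPermHom G (G ⧸ P) s ^ (i : ℕ))
    (exists_fin_pow h1) _ _ (fun x hx i => ?_) (fun x hx i j e => ?_) fun x _ => ?_
  · simp only [Finset.mem_sdiff, Finset.mem_univ, true_and, mem_fx, ← map_pow] at hx ⊢
    exact fun H => hx (by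
      have := out_smul (φ := (· ∈ normalizer (P : Set G))) (fun g u hu =>
        propext (mul_mem_cancel_right (le_normalizer hu))) (s ^ (i : ℕ)) x
      exact (mul_mem_cancel_left (le_normalizer (pow_mem h.mem _))).1 (this ▸ H))
  · by_contra H
    simp only [← map_pow] at e
    refine (Finset.mem_sdiff.1 hx).2 (mem_fx.2 (h.norm (i := (i : ℕ) - (j : ℕ)) (fun H' => H
      (fin_eq ?_)) ((c _ x).1 ?_)))
    · exact_mod_cast ((ZMod.intCast_eq_intCast_iff_dvd_sub _ _ p).2 H').symm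
    · rw [sub_eq_neg_add, zpow_add, mul_smul, zpow_neg, inv_smul_eq_iff, zpow_natCast, zpow_natCast]
      exact e
  · convert H x.out using 2 with i
    rw [← map_pow]
    exact out_smul hφ _ x

theorem card_fx : ((fx P).card : ZMod p) ≠ 0 := fun H => by
  have := Fintype.ofFinite (G ⧸ P)
  have h1 := h.sum_free (⊥ : AddSubgroup (ZMod p)) (φ := fun _ => 1) (fun _ _ _ => rfl) (by simp)
  rw [finsum_eq_sum_of_fintype] at h1
  simp only [Finset.sum_const, nsmul_eq_mul, mul_one, H, sub_zero, AddSubgroup.mem_bot,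
    ZMod.natCast_eq_zero_iff, Finset.card_univ, ← Nat.card_eq_fintype_card] at h1
  exact h.syl h1

theorem sum_eq {φ : G → ZMod p} (hφ : ∀ g, ∀ u ∈ P, φ (g * u) = φ g)
    (H : ∀ k g, PD (p - 1) fun i => φ (k * s ^ i * g)) (k : G) :
    ∑ x ∈ fx P, φ (k * x.out) = ∑ x ∈ fx P, φ x.out := by
  have := hp.out.pos
  have key : ∀ k, ∑ᶠ x : G ⧸ P, φ (k * x.out) = ∑ x ∈ fx P, φ (k * x.out) := fun k =>
    sub_eq_zero.1 (h.sum_free (⊥ : AddSubgroup (ZMod p)) (φ := fun g => φ (k * g))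
      (fun g u hu => by simp only [← mul_assoc, hφ _ u hu]) fun g => by
        simpa only [mul_assoc, AddSubgroup.mem_bot] using (H k g).sum (by omega))
  simpa [sum_shift hφ] using (key k).symm.trans ((sum_shift hφ k).trans ((sum_shift hφ 1).symm.trans (key 1)))

theorem const {φ : G → ZMod p} (hφ : ∀ g, ∀ u ∈ normalizer (P : Set G), φ (g * u) = φ g)
    (H : ∀ k g, PD (p - 1) fun i => φ (k * s ^ i * g)) (k : G) : φ k = φ 1 := by
  have := h.sum_eq (fun g u hu => hφ g u (le_normalizer hu)) H k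
  rw [Finset.sum_congr rfl fun x hx => hφ k _ (mem_fx.1 hx), Finset.sum_congr rfl fun x hx =>
    (congrArg φ (one_mul _).symm).trans (hφ 1 _ (mem_fx.1 hx))] at this
  simpa [h.card_fx] using this

/-- The weight of a top vector. -/
theorem tw {U V : Type*} [AddCommGroup U] [Module (ZMod p) U] [AddCommGroup V] [Module (ZMod p) V]
    (π : G →* End (ZMod p) U) (ρ : G →* End (ZMod p) V) (hd : (π s - 1) ^ (d + 1) = 0)
    (h2 : (ρ s - 1) ^ 2 = 0) (ψ : U →ₗ[ZMod p] ZMod p) (hψ : ∀ g ∈ P, ∀ v, ψ (π g v) = ψ v) {u : U}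
    (hu : ψ u ≠ 0) {z : V} (hz : ∀ g ∈ P, ρ g z = z) (hN : ∀ g ∈ normalizer (P : Set G), ∃ c,
      ρ g z = c • z ∧ c ^ r * ψ (π g⁻¹ u) = ψ u) {x : G}
    (hx : ρ x z ∉ Submodule.span (ZMod p) {z}) (hr : r ≠ 0) : p ≤ d + r + 1 := by
  by_contra H
  obtain ⟨ξ, h1, h0⟩ := Submodule.exists_dual_map_eq_bot_of_notMem hx inferInstance
  have h0 : ξ z = 0 := h0.le ⟨z, Submodule.mem_span_singleton_self z, rfl⟩
  have := h.sum_eq (φ := fun g => ψ (π g⁻¹ (π x u)) * ξ (ρ g z) ^ r) (fun g u hu => by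
    simp only [mul_inv_rev, map_mul, End.mul_apply, hψ _ (inv_mem hu), hz _ hu]) (fun k g => by
      have e : (π s⁻¹ - 1) ^ (d + 1) = 0 := by
        rw [show π s⁻¹ - 1 = -π s⁻¹ * (π s - 1) by rw [mul_sub, neg_mul, ← map_mul]; simp [add_comm,
          sub_eq_add_neg], Commute.mul_pow, hd, mul_zero]
        exact (((Commute.refl s).inv_left.map π).sub_right (Commute.one_right _)).neg_left
      convert (pd_mul (d + r + 1) (d + 1) _ _ _ (by ring) (pd_lin (ψ ∘ₗ π g⁻¹) (Z := π s⁻¹)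
        (v := π k⁻¹ (π x u)) (by rw [e]; rfl)) ((pd_lin (a := 1 + 1) (ξ ∘ₗ ρ k) (Z := ρ s)
        (v := ρ g z) (by rw [h2]; rfl)).pow r)).mono (b := p - 1) (by omega) using 2
      simp [← map_pow]) x
  rw [Finset.sum_congr rfl (g := fun _ => ψ u * ξ (ρ x z) ^ r) fun t ht => by
      obtain ⟨c, e1, e2⟩ := hN _ (mem_fx.1 ht)
      simp only [mul_inv_rev, map_mul, End.mul_apply, e1, map_smul, ← e2, smul_eq_mul, mul_pow]
      rw [← End.mul_apply (π x⁻¹), ← map_mul, inv_mul_cancel, map_one, End.one_apply]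
      ring, eq_comm,
    Finset.sum_eq_zero fun t ht => by
      obtain ⟨c, e1, -⟩ := hN _ (mem_fx.1 ht)
      simp [e1, h0, hr]] at this
  simp [h.card_fx, hu, h1] at this

end TI

end CfsgLib.Fus5
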