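import Mathlib
import Cfsg.Agent.Lib.Fus5.Sum

/-!
Linear groups of small degree with a Sylow subgroup of order `p` and a small automizer.
-/

set_option autoImplicit false
set_option linter.unusedSectionVars false

namespace CfsgLib.Fus5

open Subgroup Module CfsgLib.Fus2 CfsgLib.Fus4

variable {p d : ℕ} [hp : Fact p.Prime] {V : Type*} [AddCommGroup V] [Module (ZMod p) V] [Finite V]
  {W : ℕ → Submodule (ZMod p) V} {v₀ : V}

local notation "R" => End (ZMod p) V

theorem cast_ne {k : ℕ} (h0 : 0 < k) (h : k < p) : (k : ZMod p) ≠ 0 := fun H =>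
  (Nat.le_of_dvd h0 ((ZMod.natCast_eq_zero_iff k p).1 H)).not_gt h

theorem exists_sl {N : R} (f : Flag d W N v₀) (h2 : 2 ≤ d) (hd : 2 * d + 1 ≤ p) :
    ∃ F H : R, F * N - N * F = H ∧ H * N - N * H = -(2 • N) ∧
      LinearMap.trace _ _ (F * N) ≠ 0 ∧ ∀ Z ∈ Fl W 2, LinearMap.trace _ _ (F * Z) = 0 := by
  classical
  have li : LinearIndependent (ZMod p) fun i : Fin d => (N ^ (i : ℕ)) v₀ := by
    refine Fintype.linearIndependent_iff.2 fun g hg i => ?_
    induction i using WellFoundedLT.induction with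
    | ind i ih =>
    rw [← Finset.add_sum_erase _ _ (Finset.mem_univ i), add_eq_zero_iff_eq_neg] at hg
    refine f.coef i.2 (hg ▸ neg_mem (sum_mem fun j hj => ?_))
    rcases lt_or_gt_of_ne (Finset.ne_of_mem_erase hj) with H | H
    · simp [ih j H]
    · exact Submodule.smul_mem _ _ (f.anti H (f.pv j))
  let b := Basis.mk li (f.top ▸ f.ind fun j _ _ => if H : j < d then Submodule.subset_span ⟨⟨j, H⟩, rfl⟩
    else f.eq0 (f.pv j) (by omega) ▸ zero_mem _)
  have hb : ∀ i, b i = (N ^ (i : ℕ)) v₀ := Basis.mk_apply _ _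
  obtain ⟨F, hF⟩ : ∃ F : R, ∀ i : Fin d, F (b i) =
      ((i : ℕ) * (d - (i : ℕ)) : ZMod p) • (N ^ ((i : ℕ) - 1)) v₀ := ⟨b.constr ℕ _, b.constr_basis ℕ _⟩
  have F0 : F v₀ = 0 := by simpa [hb] using hF ⟨0, by omega⟩
  have F1 : ∀ i : ℕ, F ((N ^ (i + 1)) v₀) = ((i + 1) * (d - (i + 1)) : ZMod p) • (N ^ i) v₀ :=
    fun i => by
      rcases lt_trichotomy (i + 1) d with H | rfl | H
      · simpa [hb] using hF ⟨i + 1, H⟩
      · simp [f.eq0 (f.pv (i + 1)) le_rfl]
      · simp [f.eq0 (f.pv (i + 1)) H.le, f.eq0 (f.pv i) (by omega)]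
  have H1 : ∀ i : ℕ, (F * N - N * F) ((N ^ i) v₀) = (d - 1 - 2 * i : ZMod p) • (N ^ i) v₀ := fun i => by
    rw [LinearMap.sub_apply, End.mul_apply, End.mul_apply, ← End.mul_apply N, ← pow_succ', F1]
    obtain _ | i := i
    · simp [F0]
    · rw [F1, map_smul, ← End.mul_apply N, ← pow_succ', ← sub_smul]
      congr 1; push_cast; ring
  refine ⟨F, _, rfl, sub_eq_zero.1 (f.fl_eq0 (f.fl_of fun j => ?_) le_rfl), fun H => ?_, fun Z hZ => ?_⟩
  · convert zero_mem (W (j + d))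
    rw [LinearMap.sub_apply, LinearMap.sub_apply, End.mul_apply, End.mul_apply N, H1,
      ← End.mul_apply N, ← pow_succ', H1, map_smul, LinearMap.neg_apply, LinearMap.smul_apply,
      ← End.mul_apply N, ← pow_succ']
    push_cast
    module
  · have s : ∀ k : ℕ, 6 * ∑ i ∈ Finset.range k, ((i + 1) * (d - (i + 1)) : ZMod p) =
        3 * d * k * (k + 1) - k * (k + 1) * (2 * k + 1) := fun k => by
      induction k with
      | zero => simp
      | succ k ih => rw [Finset.sum_range_succ, mul_add, ih]; push_cast; ring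
    rw [LinearMap.trace_eq_matrix_trace _ b, Matrix.trace, Finset.sum_congr rfl
      (g := fun i : Fin d => (((i : ℕ) + 1) * (d - ((i : ℕ) + 1)) : ZMod p)) fun i _ => by
        rw [Matrix.diag_apply, LinearMap.toMatrix_apply, hb, End.mul_apply, ← End.mul_apply N,
          ← pow_succ', F1, ← hb]
        simp, ← Finset.sum_range fun i => ((i + 1) * (d - (i + 1)) : ZMod p)] at H
    refine mul_ne_zero (mul_ne_zero (cast_ne (p := p) (k := d) (by omega) (by omega))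
      (cast_ne (k := d + 1) (by omega) (by omega))) (cast_ne (k := d - 1) (by omega) (by omega)) ?_
    rw [Nat.cast_sub (by omega)]
    push_cast
    linear_combination 6 * H - s d
  · refine (LinearMap.isNilpotent_trace_of_isNilpotent (f.nil fun t v hv => ?_)).eq_zero
    refine f.ind (t := t + 2) (X := (W (t + 1)).comap F) (fun j hj _ => ?_) (hZ t v hv)
    obtain ⟨i, rfl⟩ : ∃ i, j = i + 1 := ⟨j - 1, by omega⟩
    exact Submodule.mem_comap.2 (F1 i ▸ Submodule.smul_mem _ _ (f.anti (by omega) (f.pv i)))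

theorem exists_log {Z : R} (f : Flag d W (Z - 1) v₀) (h3 : 3 ≤ p) (hZ : Z ^ p = 1) :
    ∃ Y : R, Commute Y Z ∧ Ld W (Z - 1) Y 1 1 ∧ ∀ (φ : R →ₗ[ZMod p] R) (a : ZMod p), a ≠ 0 →
      (∀ k, φ (Z ^ k) = (Z ^ a.val) ^ k) → φ Y = a • Y := by
  classical
  have s := FiniteField.sum_pow_units (ZMod p)
  simp only [ZMod.card] at s
  have e : ∀ a : (ZMod p)ˣ, (a : ZMod p) ^ (p - 2) * a = a ^ (p - 1) := fun a => by
    rw [← pow_succ]; congr 1; omega
  refine ⟨-∑ a : (ZMod p)ˣ, (a : ZMod p) ^ (p - 2) • Z ^ (a : ZMod p).val,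
    (Commute.sum_left _ _ _ fun a _ => ((Commute.refl Z).pow_left _).smul_left _).neg_left, ?_,
    fun φ a ha H => ?_⟩
  · have := neg_mem (sum_mem (t := Finset.univ) fun (a : (ZMod p)ˣ) _ => Submodule.smul_mem _
      ((a : ZMod p) ^ (p - 2)) (fl_binom f.anti f.sig (a : ZMod p).val))
    simp only [smul_sub, smul_smul, ZMod.natCast_zmod_val, e,
      Finset.sum_sub_distrib, ← Finset.sum_smul, s, dvd_refl, if_true,
      if_neg (Nat.not_dvd_of_pos_of_lt (by omega : 0 < p - 2) (by omega : p - 2 < p - 1))] at this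
    unfold Ld
    convert this using 1
    simp only [neg_smul, one_smul, zero_smul, pow_one]
    abel
  · rw [map_neg, map_sum, smul_neg, Finset.smul_sum, neg_inj]
    refine Fintype.sum_equiv (Equiv.mulLeft (Units.mk0 a ha)) _ _ fun c => ?_
    rw [map_smul, H, ← pow_mul, smul_smul, Equiv.coe_mulLeft, Units.val_mul, Units.val_mk0,
      ZMod.val_mul, ← pow_eq_pow_mod _ hZ, mul_pow, ← mul_assoc, mul_comm a,
      show a ^ (p - 2) * a = _ from e (Units.mk0 a ha), ZMod.pow_card_sub_one_eq_one (Units.ne_zero _),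
      one_mul]

variable {G : Type*} [Group G] [Finite G] {M P : Subgroup G} {s : G}

/-- The conjugation representation. -/
def Ad (ρ : G →* R) : G →* End (ZMod p) R where
  toFun g := LinearMap.mulLeft _ (ρ g) * LinearMap.mulRight _ (ρ g⁻¹)
  map_one' := by ext Z; simp
  map_mul' g h := by ext Z; simp

theorem Ad_apply (ρ : G →* R) (g : G) (Z : R) : Ad ρ g Z = ρ g * (Z * ρ g⁻¹) := rfl

theorem TI.exists_pow (h : TI p M P s) {A : Type*} [Monoid A] (ρ : G →* A) (hM : ∀ m ∈ M, ρ m = 1)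
    {u : G} (hu : u ∈ P) : ∃ k : ℕ, ρ u = ρ s ^ k := by
  obtain ⟨a, ha, i, rfl⟩ := exists_eq_mul_zpow h.pg h.le h.idx h.mem h.nmem hu
  obtain ⟨k, hk⟩ := mem_powers_iff_mem_zpowers.2 (zpow_mem_zpowers s i)
  exact ⟨k, by rw [map_mul, hM a ha, one_mul, ← hk, map_pow]⟩

/-- Transfer of a direct summand with a short Jordan block. -/
theorem TI.kill (h : TI p M P s) (ρ : G →* R) (hM : ∀ m ∈ M, ρ m = 1) (h0 : (ρ s - 1) ^ (p - 1) = 0)
    {f : R} (hf : Commute (ρ s) f) {k : ℕ} (hk : (ρ s - 1) ^ k * f = 0) {y : V} (hy : ρ s y = y)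
    {c : ZMod p} (hc : c ≠ 0) (e : f y = c • y)
    (hN : ∀ t ∈ normalizer (P : Set G), ∃ a : ZMod p, ρ t y = a • y) (g : G) :
    ((ρ s - 1) ^ k) (ρ g y) = 0 := by
  have := Fintype.ofFinite (G ⧸ P)
  have i1 : ∀ g, ρ g * ρ g⁻¹ = 1 := fun g => by rw [← map_mul, mul_inv_cancel, map_one]
  have hφ : ∀ g, ∀ u ∈ P, Ad ρ (g * u) f = Ad ρ g f := fun g u hu => by
    obtain ⟨j, hj⟩ := h.exists_pow ρ hM hu
    rw [map_mul, End.mul_apply, Ad_apply ρ u, ← mul_assoc, show ρ u * f = f * ρ u from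
      hj ▸ (hf.pow_left j).eq, mul_assoc, i1, mul_one]
  have cm : ∀ g (Z : R), Ad ρ g Z = Z → Commute Z (ρ g) := fun g Z H => by
    rw [Commute, SemiconjBy, ← congrArg (· * ρ g) H, Ad_apply, mul_assoc, mul_assoc,
      show ρ g⁻¹ * ρ g = 1 by simpa using i1 g⁻¹, mul_one]
  have c1 : ∀ g, Commute (∑ᶠ x : G ⧸ P, Ad ρ x.out f) (ρ g) := fun g => cm g _ (by
    refine Eq.trans ?_ (sum_shift (φ := fun g => Ad ρ g f) hφ g)
    rw [finsum_eq_sum_of_fintype, finsum_eq_sum_of_fintype, map_sum]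
    simp only [map_mul, End.mul_apply])
  have c2 : Commute (∑ x ∈ fx P, Ad ρ x.out f) (ρ s) := Commute.sum_left _ _ _ fun x hx => cm _ _ (by
    rw [← End.mul_apply, ← map_mul, ← hφ x.out _ (conj_mem' (mem_fx.1 hx) h.mem)]
    congr 2; group)
  have hs : ∀ j v, ∃ w, (ρ s ^ j) v = v + (ρ s - 1) w := fun j v =>
    ⟨(∑ i ∈ Finset.range j, ρ s ^ i) v, by rw [← End.mul_apply, mul_geom_sum]; simp⟩
  have h1 : (ρ s⁻¹ - 1) ^ (p - 1) = 0 := by
    rw [show ρ s⁻¹ - 1 = -ρ s⁻¹ * (ρ s - 1) by rw [mul_sub, neg_mul, ← map_mul]; simp [add_comm,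
      sub_eq_add_neg], Commute.mul_pow, h0, mul_zero]
    exact (((Commute.refl s).inv_left.map ρ).sub_right (Commute.one_right _)).neg_left
  obtain ⟨n1, n2⟩ := h.sum_free ((Submodule.compatibleMaps ⊤ (LinearMap.range (ρ s - 1))).toAddSubgroup ⊓
    (LinearMap.ker (LinearMap.applyₗ (M₂ := V) y)).toAddSubgroup) (φ := fun g => Ad ρ g f) hφ fun g => by
      simp only [map_mul, End.mul_apply]
      generalize Ad ρ g f = Z
      simp only [Ad_apply, ← inv_pow, map_pow ρ]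
      refine ⟨fun v _ => ?_, ?_⟩
      · choose w hw using hs
        simp only [Submodule.mem_comap, LinearMap.sum_apply, End.mul_apply, hw _ (Z _),
          Finset.sum_add_distrib]
        rw [← map_sum, ← map_sum, ← LinearMap.sum_apply, ← Finset.sum_range (ρ s⁻¹ ^ ·), geom_sum_char,
          h1, LinearMap.zero_apply, map_zero, zero_add]
        exact ⟨_, rfl⟩
      · have : ∀ i, (ρ s⁻¹ ^ i) y = y := fun i => (End.pow_apply _ i y).trans
          (Function.iterate_fixed (by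
            conv_lhs => rw [← hy, ← End.mul_apply, show ρ s⁻¹ * ρ s = 1 by simpa using i1 s⁻¹]
            rfl) i)
        change (∑ i : Fin p, _ : R) y = 0
        simp only [LinearMap.sum_apply, End.mul_apply, this]
        rw [← LinearMap.sum_apply, ← Finset.sum_range (ρ s ^ ·), geom_sum_char, h0, LinearMap.zero_apply]
  have p1 : (∑ x ∈ fx P, Ad ρ x.out f) y = ((fx P).card * c : ZMod p) • y := by
    rw [LinearMap.sum_apply, Finset.sum_congr rfl (g := fun _ => c • y) fun x hx => ?_,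
      Finset.sum_const, mul_smul, Nat.cast_smul_eq_nsmul]
    obtain ⟨a, ha⟩ := hN _ (inv_mem (mem_fx.1 hx))
    rw [Ad_apply, End.mul_apply, End.mul_apply, ha, map_smul, e, smul_comm, ← ha, map_smul,
      ← End.mul_apply, i1, End.one_apply]
  have p2 : (ρ s - 1) ^ k * ∑ x ∈ fx P, Ad ρ x.out f = 0 := by
    rw [Finset.mul_sum]
    refine Finset.sum_eq_zero fun x hx => ?_
    obtain ⟨j, hj⟩ := h.exists_pow ρ hM (conj_mem' (mem_fx.1 hx) h.mem)
    have : SemiconjBy (ρ x.out) (ρ s ^ j - 1) (ρ s - 1) := by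
      refine SemiconjBy.sub_right ?_ (SemiconjBy.one_right _)
      rw [← hj, SemiconjBy, ← map_mul, ← map_mul]
      congr 1; group
    rw [Ad_apply, ← mul_assoc, ← (this.pow_right k).eq, ← geom_sum_mul, Commute.mul_pow, mul_assoc,
      mul_assoc, ← mul_assoc _ f, hk, zero_mul, mul_zero, mul_zero]
    exact Commute.sum_left _ _ _ fun i _ =>
      ((Commute.refl _).pow_left i).sub_right (Commute.one_right _)
  generalize ∑ᶠ x : G ⧸ P, Ad ρ x.out f = T at c1 n1 n2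
  generalize ∑ x ∈ fx P, Ad ρ x.out f = T₀ at c2 n1 n2 p1 p2
  have c3 : Commute (T - T₀) (ρ s - 1) := ((c1 s).sub_left c2).sub_right (Commute.one_right _)
  obtain ⟨l, hl⟩ := nil_of_comm (m := 1) ⟨_, h0⟩ c3 fun v => by
    obtain ⟨w, hw⟩ := n1 (Submodule.mem_top (x := v))
    exact ⟨w, by simpa using hw.symm⟩
  have p3 : (T - T₀) (((ρ s - 1) ^ k) (ρ g y)) =
      ((fx P).card * c : ZMod p) • ((ρ s - 1) ^ k) (ρ g y) := by
    rw [← End.mul_apply, (c3.pow_right k).eq, mul_sub, p2, sub_zero, End.mul_apply,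
      ← End.mul_apply T, (c1 g).eq, End.mul_apply, show T y = T₀ y from sub_eq_zero.1 n2, p1,
      map_smul, map_smul]
  by_contra H
  have := End.HasEigenvector.pow_apply ⟨End.mem_eigenspace_iff.2 p3, H⟩ l
  rw [hl, LinearMap.zero_apply, eq_comm, smul_eq_zero] at this
  exact mul_ne_zero h.card_fx hc (pow_eq_zero_iff'.1 (this.resolve_right H)).1

theorem nil_sub {A : Type*} [Ring A] {c x y : A} {k : ℕ} (h : Commute x y) (h1 : Commute c x)
    (h2 : Commute c y) (hx : x ^ d = 0) (hy : y ^ d = 0) (hk : d + d ≤ k + 1) : (c * (x - y)) ^ k = 0 := by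
  rw [(h1.sub_right h2).mul_pow, sub_eq_add_neg,
    h.neg_right.add_pow_eq_zero_of_add_le_succ_of_pow_eq_zero hx (by simp [neg_pow y, hy]) hk, mul_zero]

theorem exists_proj {X : R} {τ : V →ₗ[ZMod p] ZMod p} {y z : V} (h1 : ∀ v, τ (X (X (X v))) = 0)
    (h2 : X y = 0) (h3 : X (X z) = y) : ∃ f, Commute X f ∧ X ^ 3 * f = 0 ∧ f y = τ y • y :=
  ⟨τ.smulRight y + (τ ∘ₗ X).smulRight (X z) + (τ ∘ₗ X ∘ₗ X).smulRight z,
    LinearMap.ext fun Z => by simp [h1, h2, h3, add_comm],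
    LinearMap.ext fun Z => by simp [h2, h3, pow_succ], by simp [h2]⟩

theorem TI.feit (h : TI p M P s) (ρ : G →* R) (hM : ∀ m ∈ M, ρ m = 1) (f : Flag d W (ρ s - 1) v₀)
    (h2 : 2 ≤ d) (hd : 2 * d + 1 ≤ p) {β : ℕ} (h0 : β ≠ 0) (hβ : 2 * β + 2 ≤ p) {w : G → ZMod p}
    (hw : ∀ t ∈ normalizer (P : Set G), ρ (t * s * t⁻¹) = ρ s ^ (w t).val ∧ w t ^ β = 1)
    (hg : ∀ K : Subgroup G, (∀ g, IsPGroup p (zpowers g) → g ∈ K) → K = ⊤) :
    ∀ t ∈ normalizer (P : Set G), w t = 1 := by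
  obtain ⟨F, H, e1, e2, t1, t2⟩ := exists_sl f h2 hd
  obtain ⟨Y, cY, lY, eY⟩ := exists_log f (by omega)
    (by rw [← map_pow, hM _ (pow_mem_of_prime h.pg h.idx h.mem)])
  have i1 : ∀ g, ρ g * ρ g⁻¹ = 1 := fun g => by rw [← map_mul, mul_inv_cancel, map_one]
  have i2 : ρ s⁻¹ * ρ s = 1 := by simpa using i1 s⁻¹
  have aY : ∀ t ∈ normalizer (P : Set G), Ad ρ t Y = w t • Y := fun t ht => eY _ _
    (fun e => by simpa [e, h0] using (hw t ht).2) fun k => by
      rw [← (hw t ht).1, ← map_pow, ← map_pow, conj_pow, Ad_apply, map_mul, map_mul, mul_assoc]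
  have X1 : ∀ Z : R, (Ad ρ s - 1) Z = ((ρ s - 1) * Z - Z * (ρ s - 1)) * ρ s⁻¹ := fun Z => by
    rw [LinearMap.sub_apply, Ad_apply, End.one_apply]
    linear_combination (norm := noncomm_ring) Z * i1 s
  have cs : Commute (ρ s⁻¹) (ρ s - 1) :=
    ((Commute.refl s).inv_left.map ρ).sub_right (Commute.one_right _)
  have X0 : ∀ Z : R, Commute Z (ρ s - 1) → (Ad ρ s - 1) Z = 0 := fun Z H => by
    rw [X1, H.eq, sub_self, zero_mul]
  have X2 : ∀ Z u : R, Commute u (ρ s - 1) → (Ad ρ s - 1) (u * Z) = u * (Ad ρ s - 1) Z ∧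
      (Ad ρ s - 1) (Z * u) = (Ad ρ s - 1) Z * u := fun Z u H => by
    have : Commute u (ρ s⁻¹) := (show Commute u (ρ.toHomUnits s : R) by
      simpa using H.add_right (Commute.one_right u)).units_inv_right
    simp only [X1]
    constructor
    · linear_combination (norm := noncomm_ring) (-H.eq) * Z * ρ s⁻¹
    · linear_combination (norm := noncomm_ring) -Z * H.eq * ρ s⁻¹ +
        ((ρ s - 1) * Z - Z * (ρ s - 1)) * this.eq
  have X3 : (Ad ρ s - 1) ((Ad ρ s - 1) F) = -(2 • (ρ s - 1) * ρ s⁻¹ * ρ s⁻¹) := by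
    rw [X1 F, (X2 _ _ cs).2, ← neg_sub (F * _), e1, map_neg, X1, ← neg_sub (H * _), e2]
    noncomm_ring
  have c3 : Commute (-(2 • (ρ s - 1) * ρ s⁻¹ * ρ s⁻¹)) (ρ s - 1) :=
    ((((Commute.refl _).smul_left 2).mul_left cs).mul_left cs).neg_left
  have cY' : Commute Y (ρ s - 1) := cY.sub_right (Commute.one_right _)
  obtain ⟨u, cu, eu⟩ : ∃ u, Commute u (ρ s - 1) ∧ Y = (ρ s - 1) * u := by
    obtain ⟨v, hv⟩ : Y v₀ ∈ LinearMap.range (ρ s - 1) :=
      f.ld_surj (Z := ρ s - 1) (c := 1) (k := 1) (by simp [Ld]) one_ne_zero ▸ f.ld_fl lY 0 _ (f.mem0 _)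
    obtain ⟨g, rfl⟩ := f.cyc v
    have cg : Commute (Polynomial.aeval (ρ s - 1) g) (ρ s - 1) := by
      rw [Polynomial.aeval_eq_sum_range]
      exact Commute.sum_left _ _ _ fun i _ => ((Commute.refl _).pow_left i).smul_left _
    exact ⟨_, cg, sub_eq_zero.1 (f.fl_eq0 (f.fl_of_comm (cY'.sub_left ((Commute.refl _).mul_left cg))
      (by simp [hv])) le_rfl)⟩
  have two : (2 : ZMod p) ≠ 0 := cast_ne (k := 2) (by omega) (by omega)
  obtain ⟨F', hF'⟩ : ∃ F', (Ad ρ s - 1) ((Ad ρ s - 1) F') = Y := by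
    have c0 : Commute (ρ s) (ρ s - 1) := (Commute.refl _).sub_right (Commute.one_right _)
    have c := (c0.mul_left c0).mul_left cu
    refine ⟨(-2 : ZMod p)⁻¹ • (F * (ρ s * ρ s * u)), ?_⟩
    rw [map_smul, map_smul, (X2 _ _ c).2, (X2 _ _ c).2, X3, eu, inv_smul_eq_iff₀ (neg_ne_zero.2 two),
      neg_smul, two_smul, two_smul]
    linear_combination (norm := noncomm_ring) -((ρ s - 1) + (ρ s - 1)) * (ρ s⁻¹ * i2 * ρ s + i2) * u
  let τ : R →ₗ[ZMod p] ZMod p := LinearMap.trace _ _ ∘ₗ LinearMap.mulLeft _ F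
  have adj : ∀ A Z : R, LinearMap.trace _ _ (A * (Ad ρ s - 1) Z) =
      -LinearMap.trace _ _ ((Ad ρ s - 1) A * Ad ρ s Z) := fun A Z => by
    have : LinearMap.trace _ _ (Ad ρ s A * Ad ρ s Z) = LinearMap.trace _ _ (A * Z) := by
      rw [Ad_apply, Ad_apply, mul_assoc, LinearMap.trace_mul_comm]
      congr 1
      linear_combination (norm := noncomm_ring) A * i2 * Z * ρ s⁻¹ * ρ s + A * Z * i2
    simp only [LinearMap.sub_apply, End.one_apply, mul_sub, sub_mul, map_sub, this, neg_sub]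
  have cA : ∀ Z, Ad ρ s ((Ad ρ s - 1) Z) = (Ad ρ s - 1) (Ad ρ s Z) := fun Z => by simp
  have τ3 : ∀ Z, τ ((Ad ρ s - 1) ((Ad ρ s - 1) ((Ad ρ s - 1) Z))) = 0 := fun Z => by
    change LinearMap.trace _ _ (F * _) = 0
    rw [adj, cA, adj, cA, cA, adj, X3, X0 _ c3, zero_mul, map_zero, neg_zero, neg_zero, neg_zero]
  have τY : τ Y ≠ 0 := fun e => t1 (by
    have := t2 _ lY
    rw [one_smul, pow_one, mul_sub, map_sub, show LinearMap.trace _ _ (F * Y) = 0 from e] at this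
    simpa using this)
  have n0 : (Ad ρ s - 1) ^ (p - 1) = 0 := by
    have a0 : (ρ s - 1) ^ d = 0 := f.fl_eq0 (f.pw d) le_rfl
    rw [show Ad ρ s - 1 = LinearMap.mulRight _ (ρ s⁻¹) * (LinearMap.mulLeft _ (ρ s - 1) -
      LinearMap.mulRight _ (ρ s - 1)) from LinearMap.ext X1]
    exact nil_sub (d := d) (LinearMap.commute_mulLeft_right _ _) (LinearMap.commute_mulLeft_right _ _).symm
      (LinearMap.ext fun Z => by simp [mul_assoc, cs.eq]) (by simp [a0]) (by simp [a0]) (by omega)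
  have XY := X0 _ cY'
  obtain ⟨f₀, g1, g2, g3⟩ := exists_proj τ3 XY hF'
  have key := h.kill (Ad ρ) (fun m hm => LinearMap.ext fun Z => by
      simp [Ad_apply, hM m hm, hM _ (inv_mem hm)]) n0 (by simpa using g1.add_left (Commute.one_left _))
    g2 (sub_eq_zero.1 XY) τY g3 fun t ht => ⟨_, aY t ht⟩
  have inv : ∀ g, ∃ c : ZMod p, c • Y = Ad ρ g Y := fun g => Submodule.mem_span_singleton.1 (by
    by_contra hx
    obtain ⟨ξ, h1, h3⟩ := Submodule.exists_dual_map_eq_bot_of_notMem hx inferInstance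
    have h3 : ξ Y = 0 := h3.le ⟨Y, Submodule.mem_span_singleton_self Y, rfl⟩
    have := h.const (φ := fun g => ξ (Ad ρ g Y) ^ β) (fun g u hu => by
      simp [aY u hu, mul_pow, (hw u hu).2]) (fun k g => by
        convert ((pd_lin (a := 2 + 1) (ξ ∘ₗ Ad ρ k) (key g)).pow β).mono (b := p - 1) (by omega) using 2
        simp) g
    simp [h3, h0, h1] at this)
  have Y0 : Y ≠ 0 := fun e => τY (by simp [e])
  have := hg ((MulAction.stabilizer (End (ZMod p) R)ˣ Y).comap (Ad ρ).toHomUnits) fun g hg => by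
    obtain ⟨c, hc⟩ := inv g
    obtain ⟨k, hk⟩ := hg ⟨g, mem_zpowers g⟩
    have := End.HasEigenvector.pow_apply ⟨End.mem_eigenspace_iff.2 hc.symm, Y0⟩ (p ^ k)
    rw [← map_pow, show g ^ p ^ k = 1 from congrArg Subtype.val hk, map_one, ZMod.pow_card_pow] at this
    exact hc.symm.trans this.symm
  intro t ht
  have h1 : Ad ρ t Y = Y := this.ge (mem_top t)
  exact smul_left_injective _ Y0 ((aY t ht).symm.trans (h1.trans (one_smul _ _).symm))

end CfsgLib.Fus5
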