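import Mathlib
import Cfsg.Agent.Lib.Fus4.Wrap

/-!
The characteristic series `γ₁ > γ₂ > ⋯` of a group of maximal class.
-/

set_option autoImplicit false
set_option linter.unusedSectionVars false

namespace CfsgLib.Fus5

open Subgroup Cfsg CfsgLib.LAE CfsgLib.Fusion CfsgLib.MaxCl CfsgLib.Fus2 CfsgLib.Fus4
open scoped commutatorElement

variable {Γ : Type*} [Group Γ] [Finite Γ] {p n i j k a b t : ℕ} [hp : Fact p.Prime]
  {S X : Subgroup Γ} {g x s u v : Γ}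

/-- The series `γ₁ > γ₂ > ⋯`, indexed from `0`. -/
def gp (S : Subgroup Γ) (i : ℕ) : Subgroup Γ := kc S 1 ⊓ lc S i

theorem gp_zero (S : Subgroup Γ) : gp S 0 = kc S 1 := inf_eq_left.2 (kc_le S 1)

theorem gp_eq (S : Subgroup Γ) (hi : 1 ≤ i) : gp S i = lc S i :=
  inf_eq_right.2 ((lc_anti S hi).trans (lc_le_kc S 1))

theorem gp_anti (S : Subgroup Γ) (h : i ≤ j) : gp S j ≤ gp S i := inf_le_inf_left _ (lc_anti S h)

theorem gp_le_kc (S : Subgroup Γ) (i : ℕ) : gp S i ≤ kc S 1 := inf_le_left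

theorem gp_le (S : Subgroup Γ) (i : ℕ) : gp S i ≤ S := (gp_le_kc S i).trans (kc_le S 1)

theorem n_gp (hg : g ∈ normalizer (S : Set Γ)) (i : ℕ) : g ∈ normalizer (gp S i : Set Γ) :=
  inf_normalizer_le_normalizer_inf ⟨n_kc hg 1, n_lc hg i⟩

theorem S_n_gp (S : Subgroup Γ) (i : ℕ) : S ≤ normalizer (gp S i : Set Γ) :=
  fun _ hg => n_gp (le_normalizer hg) i

theorem cm_gp (hg : g ∈ gp S i) (hx : x ∈ S) : ⁅g, x⁆ ∈ gp S (i + 1) :=
  gp_eq S (Nat.le_add_left 1 i) ▸ cm_lc hg.2 hx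

theorem exists_pos (hg : g ∈ gp S a) (hk : g ∉ gp S k) :
    ∃ i, a ≤ i ∧ i < k ∧ g ∈ gp S i ∧ g ∉ gp S (i + 1) := by
  induction k with
  | zero => exact absurd (gp_anti S (Nat.zero_le a) hg) hk
  | succ k ih =>
    by_cases H : g ∈ gp S k
    · exact ⟨k, by_contra fun H' => hk (gp_anti S (by omega) hg), by omega, H, hk⟩
    · obtain ⟨i, h1, h2, h3⟩ := ih H
      exact ⟨i, h1, by omega, h3⟩

/-- Elements outside all two-step centralisers. -/
def Un (S : Subgroup Γ) (n : ℕ) (s : Γ) : Prop := s ∈ S ∧ s ∉ kc S 1 ∧ s ∉ kc S (n - 3)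

variable (m : MC S p n) (h4 : 4 ≤ n)
include m h4

theorem card_gp (i : ℕ) : Nat.card (gp S i) = p ^ (n - 1 - i) := by
  obtain _ | i := i
  · rw [gp_zero, ← map_K, card_map_subtype, m.card_K le_rfl h4]; rfl
  · rw [gp_eq S (by omega), mc_card_lc m (by omega)]

theorem gp_bot (hi : n - 1 ≤ i) : gp S i = ⊥ := by rw [gp_eq S (by omega), mc_lc_bot m hi]

theorem idx_gp (hi : i + 2 ≤ n) : (gp S (i + 1)).relIndex (gp S i) = p :=
  relIndex_eq_of_card (gp_anti S i.le_succ) (card_gp m h4 _) (by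
    rw [card_gp m h4, ← pow_succ]; congr 1; omega)

theorem pos_le (hg : g ∈ gp S i) (hg' : g ∉ gp S (i + 1)) : i + 2 ≤ n := by
  by_contra H
  rw [gp_bot m h4 (by omega), mem_bot] at hg
  exact hg' (hg ▸ one_mem _)

theorem sup_gp (hg : g ∈ gp S i) (hg' : g ∉ gp S (i + 1)) : gp S (i + 1) ⊔ zpowers g = gp S i :=
  sup_zpowers_eq (gp_anti S i.le_succ) (idx_gp m h4 (pos_le m h4 hg hg')) hg hg'

theorem pg_gp (i : ℕ) : IsPGroup p (gp S i) := IsPGroup.to_le m.pgroup (gp_le S i)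

theorem cm_not (hx : x ∈ S) (h1 : x ∉ kc S 1) (h2 : i + 4 ≤ n ∨ x ∉ kc S (n - 3)) (hi : i + 3 ≤ n)
    (hg : g ∈ gp S i) (hg' : g ∉ gp S (i + 1)) : ⁅g, x⁆ ∉ gp S (i + 2) := by
  rw [gp_eq S (by omega)] at hg' ⊢
  obtain _ | i := i
  · exact mc_cm_two m (lc_le_kc S 1) (kc_le S 1) hg.1 hg' hx h1
  refine mc_cm_not m (by omega) hx ?_ hg.2 hg'
  by_cases H : i + 1 + 4 ≤ n
  · exact mc_kc_eq m (by omega) H ▸ h1
  · exact (show n - 3 = i + 1 by omega) ▸ h2.resolve_left H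

theorem Un.cm_not (hs : Un S n s) (hi : i + 3 ≤ n) (hg : g ∈ gp S i) (hg' : g ∉ gp S (i + 1)) :
    ⁅g, s⁆ ∉ gp S (i + 2) := Fus5.cm_not m h4 hs.1 hs.2.1 (Or.inr hs.2.2) hi hg hg'

theorem exists_un : ∃ s, Un S n s ∧ s ^ p ∈ gp S (n - 2) := by
  obtain ⟨s, h1, h2, h3⟩ := mc_exists_unif m
  exact ⟨s, ⟨h1, h3 1 le_rfl h4, h3 _ (by omega) (by omega)⟩, gp_eq S (i := n - 2) (by omega) ▸ h2⟩

theorem comm_gp (i : ℕ) : ⁅gp S i, S⁆ = gp S (i + 1) := by
  refine le_antisymm (commutator_le.2 fun g hg x hx => cm_gp hg hx) ?_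
  obtain _ | i := i
  · obtain ⟨s, hs, -⟩ := exists_un m h4
    obtain ⟨g, hg, hg'⟩ := exists_not_mem (idx_gp m h4 (i := 0) (by omega))
    rw [← sup_gp m h4 (cm_gp hg hs.1) (hs.cm_not m h4 (by omega) hg hg'), gp_eq S (by omega)]
    exact sup_le (commutator_mono ((gp_eq S le_rfl).ge.trans (gp_anti S (Nat.zero_le 1))) le_rfl)
      (zpowers_le.2 (commutator_mem_commutator hg hs.1))
  · rw [gp_eq S (by omega), gp_eq S (by omega)]; rfl

theorem dc_step (h1 : ⁅gp S a, gp S b⁆ ≤ gp S t) (h2 : ⁅gp S (a + 1), gp S b⁆ ≤ gp S (t + 1)) :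
    ⁅gp S a, gp S (b + 1)⁆ ≤ gp S (t + 1) := by
  have l := S_n_gp S (t + 1)
  rw [commutator_comm, ← comm_gp m h4 b]
  refine Core.three_subgroups_of_le_normalizer ((gp_le S b).trans l) l ((gp_le S a).trans l) ?_ ?_
  · rwa [commutator_comm S, comm_gp m h4]
  · exact (commutator_mono h1 le_rfl).trans (comm_gp m h4 t).le

theorem dc_weak (a b : ℕ) : ⁅gp S a, gp S b⁆ ≤ gp S (a + b + 1) := by
  induction b generalizing a with
  | zero => exact commutator_le.2 fun g hg x hx => cm_gp hg (gp_le S 0 hx)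
  | succ b ih => exact dc_step m h4 (ih a) ((ih (a + 1)).trans (gp_anti S (by omega)))

theorem comm_le_of_elt (hX : S ≤ normalizer (X : Set Γ)) (h1 : ⁅gp S (a + 1), gp S b⁆ ≤ X)
    (h2 : ⁅gp S a, gp S (b + 1)⁆ ≤ X) (hu : u ∈ gp S a) (hu' : u ∉ gp S (a + 1)) (hv : v ∈ gp S b)
    (hv' : v ∉ gp S (b + 1)) (h : ⁅u, v⁆ ∈ X) : ⁅gp S a, gp S b⁆ ≤ X :=
  commutator_le.2 fun g hg x hx => cm_swap ((sup_gp m h4 hu hu' ▸ cm_sup_zpowers
    ((gp_le S _).trans hX) (hX (gp_le S _ hu)) (fun y hy => cm_swap (commutator_le.1 h1 y hy x hx))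
    (cm_swap ((sup_gp m h4 hv hv' ▸ cm_sup_zpowers ((gp_le S _).trans hX) (hX (gp_le S _ hv))
      (commutator_le.1 h2 u hu) h : ∀ y ∈ gp S b, ⁅u, y⁆ ∈ X) x hx)) : ∀ y ∈ gp S a, ⁅x, y⁆ ∈ X) g hg)

theorem dc (H : a + b + 4 ≤ n ∨ kc S (n - 3) = kc S 1) : ⁅gp S a, gp S b⁆ ≤ gp S (a + b + 2) := by
  induction b generalizing a with
  | succ b ih =>
    exact dc_step m h4 (ih (H.imp_left (by omega)))
      ((ih (a := a + 1) (H.imp_left (by omega))).trans (gp_anti S (by omega)))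
  | zero =>
  obtain _ | a := a
  · obtain ⟨g, hg, hg'⟩ := exists_not_mem (idx_gp m h4 (i := 0) (by omega))
    exact comm_le_of_elt m h4 (S_n_gp S _) (dc_weak m h4 1 0) (dc_weak m h4 0 1) hg hg' hg hg'
      (by simp)
  by_cases H' : a + 1 + 3 ≤ n
  · have e : kc S (a + 1) = kc S 1 := by
      by_cases H' : a + 1 + 4 ≤ n
      · exact mc_kc_eq m (by omega) H'
      · exact (show n - 3 = a + 1 by omega) ▸ H.resolve_left H'
    rw [gp_zero, ← e, gp_eq S (by omega), gp_eq S (by omega)]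
    exact commutator_le.2 fun g hg x hx => cm_swap ((mem_kc.1 hx).2 g hg)
  · exact (dc_weak m h4 _ _).trans ((gp_bot m h4 (by omega)).le.trans bot_le)

theorem kc_last : kc S (n - 3) = S ⊓ centralizer (gp S (n - 3) : Set Γ) := by
  rw [mc_kc_last m, gp_eq S (by omega)]

theorem idx_kc : (kc S 1).relIndex S = p := mc_idx_kc m le_rfl h4

theorem idx_kc' : (kc S (n - 3)).relIndex S = p := mc_idx_kc m (by omega) (by omega)

theorem kc_eq_of_le (h : kc S 1 ≤ kc S (n - 3)) : kc S (n - 3) = kc S 1 :=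
  (eq_or_eq_prime (idx_kc m h4) h (kc_le S _)).resolve_right fun e =>
    not_le_of_relIndex_prime (idx_kc' m h4) e.ge

theorem pair (hx : kc S (n - 3) ≠ kc S 1) (h : a + b + 3 = n) : ¬ ⁅gp S a, gp S b⁆ ≤ ⊥ := by
  induction a generalizing b with
  | zero =>
    refine fun H => hx (kc_eq_of_le m h4 fun x hx => ?_)
    rw [kc_last m h4, show n - 3 = b by omega]
    exact ⟨hx.1, mem_centralizer_of_cm (commutator_le.1 H x (gp_zero S ▸ hx))⟩
  | succ a ih =>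
    refine fun H => ih (b := b + 1) (by omega) ?_
    rw [← gp_bot m h4 (i := a + b + 2 + 1) (by omega)] at H ⊢
    exact dc_step m h4 (dc m h4 (Or.inl (by omega))) H

theorem pair_ne (hx : kc S (n - 3) ≠ kc S 1) (h : a + b + 3 = n) (hu : u ∈ gp S a)
    (hu' : u ∉ gp S (a + 1)) (hv : v ∈ gp S b) (hv' : v ∉ gp S (b + 1)) : ⁅u, v⁆ ≠ 1 := fun H =>
  pair m h4 hx h (comm_le_of_elt m h4 (norm_bot S)
    ((dc_weak m h4 _ _).trans (gp_bot m h4 (by omega)).le)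
    ((dc_weak m h4 _ _).trans (gp_bot m h4 (by omega)).le) hu hu' hv hv' H)

theorem even_of_exc (hx : kc S (n - 3) ≠ kc S 1) : n % 2 = 0 := by
  by_contra H
  obtain ⟨g, hg, hg'⟩ := exists_not_mem (idx_gp m h4 (i := (n - 3) / 2) (by omega))
  exact pair_ne m h4 hx (by omega) hg hg' hg hg' (by simp)

theorem kc_eq_of_big (h : p + 2 ≤ n) : kc S (n - 3) = kc S 1 := by
  rw [← map_K, ← map_K, m.K_eq h (by omega) (by omega)]

theorem six_le (hx : kc S (n - 3) ≠ kc S 1) : 6 ≤ n ∧ n ≤ p + 1 := by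
  have := even_of_exc m h4 hx
  have : n ≠ 4 := fun e => hx (by rw [e])
  exact ⟨by omega, by_contra fun H => hx (kc_eq_of_big m h4 (by omega))⟩

theorem pow_not (h : p + 2 ≤ n) (hi : i + p + 1 ≤ n) (hg : g ∈ gp S i) (hg' : g ∉ gp S (i + 1)) :
    g ^ p ∉ gp S (i + p) := by
  have := hp.out.pos
  rw [gp_eq S (by omega)] at hg' ⊢
  obtain _ | i := i
  · exact fun H => m.pow_not_mem_K h (y := ⟨g, hg.1.1⟩) (mem_kc'.2 hg.1) (fun H => hg' (mem_lc.1 H))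
      (mem_lc.2 (by simpa using H))
  · exact fun H => m.pow_not_mem (by omega) hi (g := ⟨g, hg.1.1⟩) (mem_lc.2 hg.2)
      (fun H => hg' (mem_lc.1 H)) (mem_lc.2 H)

theorem mem_gp_of_pow (h : p + 2 ≤ n) (hg : g ∈ kc S 1) (h1 : g ^ p = 1) : g ∈ gp S (n - p) := by
  by_contra H
  obtain ⟨i, -, h2, h3, h5⟩ := exists_pos (gp_zero S ▸ hg) H
  exact pow_not m h4 h (by omega) h3 h5 (h1 ▸ one_mem _)

theorem Un.gp_le (hs : Un S n s) (hX : s ∈ normalizer (X : Set Γ)) (hu : u ∈ X) (h1 : u ∈ gp S i)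
    (h2 : u ∉ gp S (i + 1)) : gp S i ≤ X := by
  induction h : n - i generalizing i u with
  | zero => have := pos_le m h4 h1 h2; omega
  | succ d ih =>
    rw [← sup_gp m h4 h1 h2]
    refine sup_le ?_ (zpowers_le.2 hu)
    by_cases H : i + 3 ≤ n
    · exact ih (cm_mem_left hX hu) (cm_gp h1 hs.1) (hs.cm_not m h4 H h1 h2) (by omega)
    · exact (gp_bot m h4 (by omega)).le.trans bot_le

theorem Un.exists_eq (hs : Un S n s) (hX : s ∈ normalizer (X : Set Γ)) (hK : X ≤ kc S 1) :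
    ∃ k, k + 1 ≤ n ∧ X = gp S k := by
  classical
  have H : ∃ k, gp S k ≤ X := ⟨n - 1, (gp_bot m h4 le_rfl).le.trans bot_le⟩
  refine ⟨Nat.find H, ?_, le_antisymm (fun u hu => by_contra fun H' => ?_) (Nat.find_spec H)⟩
  · have := Nat.find_min' H (m := n - 1) ((gp_bot m h4 le_rfl).le.trans bot_le)
    omega
  · obtain ⟨i, -, h1, h2, h3⟩ := exists_pos (gp_zero S ▸ hK hu) H'
    exact Nat.find_min H h1 (hs.gp_le m h4 hX hu h2 h3)

theorem exists_eq_gp (hX : S ≤ normalizer (X : Set Γ)) (hK : X ≤ kc S 1) :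
    ∃ k, k + 1 ≤ n ∧ X = gp S k := by
  obtain ⟨s, hs, -⟩ := exists_un m h4
  exact hs.exists_eq m h4 (hX hs.1) hK

theorem gp_le_of_normal (hX : S ≤ normalizer (X : Set Γ)) (hu : u ∈ X) (huS : u ∈ S) (hj : 1 ≤ j)
    (h : u ∉ gp S (j + 1)) : gp S j ≤ X := by
  obtain ⟨s, hs, -⟩ := exists_un m h4
  by_cases H : u ∈ kc S 1
  · obtain ⟨i, -, h1, h2, h3⟩ := exists_pos (gp_zero S ▸ H) h
    exact (gp_anti S (by omega)).trans (hs.gp_le m h4 (hX hs.1) hu h2 h3)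
  · obtain ⟨g, hg, hg'⟩ := exists_not_mem (idx_gp m h4 (i := 0) (by omega))
    exact (gp_anti S hj).trans (hs.gp_le m h4 (hX hs.1) (cm_mem_right (hX (gp_le S 0 hg)) hu)
      (cm_gp hg huS) (cm_not m h4 huS H (Or.inl h4) (by omega) hg hg'))

theorem le_phi (hna : ¬ ⁅kc S 1, kc S 1⁆ ≤ ⊥) (i : ℕ) : gp S (i + p - 1) ≤ phi (gp S i) := by
  obtain ⟨k, -, e⟩ := exists_eq_gp m h4 ((S_n_gp S i).trans
    (Core.normalizer_le_normalizer_map_frattini _)) ((map_subtype_le _).trans (gp_le_kc S i))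
  obtain ⟨h1, h2⟩ := (Core.map_frattini_le_iff_of_isPGroup (pg_gp m h4 i)).1 e.le
  have := hp.out.two_le
  rw [show phi (gp S i) = _ from e]
  by_cases H : i + p + 1 ≤ n
  · refine gp_anti S (by_contra fun H' => ?_)
    by_cases H2 : p + 2 ≤ n
    · obtain ⟨g, hg, hg'⟩ := exists_not_mem (idx_gp m h4 (i := i) (by omega))
      exact pow_not m h4 H2 H hg hg' (gp_anti S (by omega) (h2 g hg))
    · obtain rfl : i = 0 := by omega
      exact hna (gp_zero S ▸ h1.trans (gp_bot m h4 (by omega)).le)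
  · exact (gp_bot m h4 (by omega)).le.trans bot_le

theorem center_eq : S ⊓ centralizer (S : Set Γ) = gp S (n - 2) := by
  rw [mc_center m, gp_eq S (by omega)]

theorem pow_gp (hi : 1 ≤ i) (hg : g ∈ gp S i) : g ^ p ∈ gp S (i + p - 1) := by
  have := hp.out.pos
  rw [gp_eq S (by omega)]
  exact mem_lc.1 (m.pow_mem hi (g := ⟨g, gp_le S i hg⟩) (mem_lc.2 hg.2))

end CfsgLib.Fus5
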