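import Mathlib
import Cfsg.Agent.Lib.Fus5.Pos
import Cfsg.Agent.Lib.Fus2.Foc

/-!
Weights of automorphisms on the factors of the series `γ₁ > γ₂ > ⋯`.
-/

set_option autoImplicit false
set_option linter.unusedSectionVars false

namespace CfsgLib.Fus5

open Subgroup Cfsg CfsgLib.LAE CfsgLib.Fusion CfsgLib.MaxCl CfsgLib.Fus2 CfsgLib.Fus4
open scoped commutatorElement

variable {Γ : Type*} [Group Γ] [Finite Γ] {p n i j k t : ℕ} [hp : Fact p.Prime]
  {S X Y : Subgroup Γ} {g h x y s u v : Γ} {a b : ℤ}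

open _root_.Classical in
/-- The scalar induced by `h` on `Y / X`. -/
noncomputable def wz (p : ℕ) (X Y : Subgroup Γ) (h : Γ) : ZMod p :=
  if H : ∃ a, Wt h a X Y then (H.choose : ℤ) else 0

/-- A section of order `p`. -/
structure Pr (p : ℕ) (X Y : Subgroup Γ) : Prop where
  pg : IsPGroup p Y
  le : X ≤ Y
  idx : X.relIndex Y = p

namespace Pr

variable (r : Pr p X Y)
include r

theorem eq (w : Wt h a X Y) : wz p X Y h = a := by
  rw [wz, dif_pos ⟨a, w⟩]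
  exact (Exists.choose_spec (⟨a, w⟩ : ∃ a, Wt h a X Y)).unique w r.pg (not_le_of_relIndex_prime r.idx)

theorem spec (hX : h ∈ normalizer (X : Set Γ)) (hY : h ∈ normalizer (Y : Set Γ)) :
    ∃ a, Wt h a X Y ∧ wz p X Y h = a :=
  (exists_wt r.pg r.le r.idx hX hY).imp fun _ w => ⟨w, r.eq w⟩

theorem eq_of_ew (hX : h ∈ normalizer (X : Set Γ)) (hy : y ∈ Y) (hy' : y ∉ X) (w : Ew h a X y) :
    wz p X Y h = a := r.eq (w.wt_prime r.pg r.le r.idx hy hy' hX)

theorem mul (hX : g ∈ normalizer (X : Set Γ)) (hY : g ∈ normalizer (Y : Set Γ))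
    (hX' : h ∈ normalizer (X : Set Γ)) (hY' : h ∈ normalizer (Y : Set Γ)) :
    wz p X Y (g * h) = wz p X Y g * wz p X Y h := by
  obtain ⟨a, w, e⟩ := r.spec hX hY
  obtain ⟨b, w', e'⟩ := r.spec hX' hY'
  rw [e, e', ← Int.cast_mul]
  refine r.eq fun y hy => ?_
  convert X.mul_mem (w _ (zpow_mem hy b)) (conj_mem hX (w' y hy)) using 1
  group

theorem one_iff (hX : h ∈ normalizer (X : Set Γ)) (hY : h ∈ normalizer (Y : Set Γ)) :
    wz p X Y h = 1 ↔ ∀ y ∈ Y, ⁅h, y⁆ ∈ X := by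
  refine ⟨fun e y hy => ?_, fun H => ?_⟩
  · obtain ⟨a, w, e'⟩ := r.spec hX hY
    exact cm_swap (w.cm_of_one (fun _ => pow_mem_of_prime r.pg r.idx) (e' ▸ e) y hy)
  · refine (r.eq (a := 1) fun y hy => ?_).trans Int.cast_one
    convert conj_mem' (le_normalizer_of_prime r.pg r.le r.idx hy) (H y hy) using 1
    group

/-- The weight as a homomorphism. -/
noncomputable def hom {H : Subgroup Γ} (hX : H ≤ normalizer (X : Set Γ))
    (hY : H ≤ normalizer (Y : Set Γ)) : H →* ZMod p where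
  toFun g := wz p X Y g
  map_one' := (r.one_iff (one_mem _) (one_mem _)).2 fun _ _ => by simp
  map_mul' g h := r.mul (hX g.2) (hY g.2) (hX h.2) (hY h.2)

theorem pow (hX : h ∈ normalizer (X : Set Γ)) (hY : h ∈ normalizer (Y : Set Γ)) (k : ℕ) :
    wz p X Y (h ^ k) = wz p X Y h ^ k :=
  map_pow (r.hom inf_le_left inf_le_right) ⟨h, hX, hY⟩ k

theorem ne (hX : h ∈ normalizer (X : Set Γ)) (hY : h ∈ normalizer (Y : Set Γ)) : wz p X Y h ≠ 0 :=
  ((r.hom inf_le_left inf_le_right).toHomUnits ⟨h, hX, hY⟩).ne_zero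

end Pr

/-- The weight on `S / γ₁`. -/
noncomputable abbrev wa (p : ℕ) (S : Subgroup Γ) := wz p (kc S 1) S

/-- The weight on the factor number `i`. -/
noncomputable abbrev ww (p : ℕ) (S : Subgroup Γ) (i : ℕ) := wz p (gp S (i + 1)) (gp S i)

variable (m : MC S p n) (h4 : 4 ≤ n)
include m h4

theorem pr_a : Pr p (kc S 1) S := ⟨m.pgroup, kc_le S 1, idx_kc m h4⟩

theorem pr_w (hi : i + 2 ≤ n) : Pr p (gp S (i + 1)) (gp S i) :=
  ⟨pg_gp m h4 i, gp_anti S i.le_succ, idx_gp m h4 hi⟩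

theorem wa_ne (hh : h ∈ normalizer (S : Set Γ)) : wa p S h ≠ 0 := (pr_a m h4).ne (n_kc hh 1) hh

theorem ww_ne (hh : h ∈ normalizer (S : Set Γ)) (hi : i + 2 ≤ n) : ww p S i h ≠ 0 :=
  (pr_w m h4 hi).ne (n_gp hh _) (n_gp hh _)

theorem ww_ew (hh : h ∈ normalizer (S : Set Γ)) (hy : y ∈ gp S i) (hy' : y ∉ gp S (i + 1))
    (w : Ew h a (gp S (i + 1)) y) : ww p S i h = a :=
  (pr_w m h4 (pos_le m h4 hy hy')).eq_of_ew (n_gp hh _) hy hy' w

theorem ww_succ (hh : h ∈ normalizer (S : Set Γ)) (hi : i + 3 ≤ n)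
    (H : i + 4 ≤ n ∨ kc S (n - 3) = kc S 1) : ww p S (i + 1) h = ww p S i h * wa p S h := by
  obtain ⟨a, w1, e1⟩ := (pr_w m h4 (i := i) (by omega)).spec (n_gp hh _) (n_gp hh _)
  obtain ⟨b, w2, e2⟩ := (pr_a m h4).spec (n_kc hh 1) hh
  obtain ⟨c, w3, e3⟩ := (pr_w m h4 (i := i + 1) (by omega)).spec (n_gp hh _) (n_gp hh _)
  simp only [e1, e2, e3, ← Int.cast_mul]
  by_contra H'
  have l := S_n_gp S (i + 1 + 1)
  have := comm_le_of_wt (pg_gp m h4 _) (n_gp hh _) ((gp_le S i).trans l) l hh (comm_gp m h4 i).le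
    (commutator_le.2 fun _ a _ b => cm_swap (cm_gp b (gp_le S i a)))
    (commutator_le.2 fun _ a _ b => cm_swap (cm_gp b a)) (comm_gp m h4 _).le
    (gp_zero S ▸ dc m h4 (b := 0) H) w1 w2 w3 (Ne.symm H')
  exact not_le_of_relIndex_prime (idx_gp m h4 (i := i + 1) (by omega)) (comm_gp m h4 i ▸ this)

theorem ww_add (hh : h ∈ normalizer (S : Set Γ)) (hi : i + k + 2 ≤ n)
    (H : i + k + 3 ≤ n ∨ kc S (n - 3) = kc S 1) : ww p S (i + k) h = ww p S i h * wa p S h ^ k := by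
  induction k with
  | zero => simp
  | succ k ih =>
    rw [← add_assoc, ww_succ m h4 hh (by omega) (H.imp_left (by omega)),
      ih (by omega) (H.imp_left (by omega)), pow_succ, mul_assoc]

theorem ww_pair (hh : h ∈ normalizer (S : Set Γ)) (ht : t + 2 ≤ n) (h1 : ⁅gp S i, gp S j⁆ ≤ gp S t)
    (h2 : ⁅gp S (i + 1), gp S j⁆ ≤ gp S (t + 1)) (h3 : ⁅gp S i, gp S (j + 1)⁆ ≤ gp S (t + 1))
    (h0 : ¬ ⁅gp S i, gp S j⁆ ≤ gp S (t + 1)) : i + j < t ∧ ww p S t h = ww p S i h * ww p S j h := by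
  have hl : i + j < t := lt_of_not_ge fun H => h0 ((by
    rcases H.eq_or_lt with rfl | H
    exacts [dc_weak m h4 i j, (dc_weak m h4 i j).trans (gp_anti S (by omega))]))
  obtain ⟨a, w1, e1⟩ := (pr_w m h4 (i := i) (by omega)).spec (n_gp hh _) (n_gp hh _)
  obtain ⟨b, w2, e2⟩ := (pr_w m h4 (i := j) (by omega)).spec (n_gp hh _) (n_gp hh _)
  obtain ⟨c, w3, e3⟩ := (pr_w m h4 ht).spec (n_gp hh _) (n_gp hh _)
  simp only [e1, e2, e3, ← Int.cast_mul]
  refine ⟨hl, by_contra fun H' => ?_⟩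
  have l := fun i => (gp_le S i).trans (S_n_gp S (t + 1))
  have c := fun i => commutator_le.2 fun x a y b => cm_swap (cm_gp (i := t) (g := y) b (gp_le S i (x := x) a))
  exact h0 (comm_le_of_wt (pg_gp m h4 _) (n_gp hh _) (l i) (l j) (n_gp hh _) h1 (c i) (c j) h2 h3
    w1 w2 w3 (Ne.symm H'))

theorem ww_last (hx : kc S (n - 3) ≠ kc S 1) (hh : h ∈ normalizer (S : Set Γ)) :
    ww p S (n - 2) h = ww p S 0 h ^ 2 * wa p S h ^ (n - 3) := by
  have e := ww_add m h4 hh (i := 0) (k := n - 3) (by omega) (Or.inl (by omega))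
  rw [zero_add] at e
  rw [sq, mul_assoc, ← e]
  exact (ww_pair m h4 hh (by omega) ((dc_weak m h4 _ _).trans (gp_anti S (by omega)))
    ((dc_weak m h4 _ _).trans (gp_anti S (by omega))) ((dc_weak m h4 _ _).trans (gp_anti S (by omega)))
    fun H => pair m h4 hx (by omega) (H.trans (gp_bot m h4 (by omega)).le)).2

theorem exists_c (ht : t + 2 ≤ n) (H : t + 3 ≤ n ∨ kc S (n - 3) = kc S 1)
    (hna : ¬ ⁅kc S 1, kc S 1⁆ ≤ gp S (t + 1)) :
    ∃ c, ∀ h ∈ normalizer (S : Set Γ), ∀ i ≤ t, ww p S i h = wa p S h ^ (c + i) := by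
  obtain ⟨⟨u, v⟩, h0, mx⟩ := Set.exists_max_image
    {x : ℕ × ℕ | ¬ ⁅gp S x.1, gp S x.2⁆ ≤ gp S (t + 1)} (fun x => x.1 + x.2)
    (((Set.finite_lt_nat t).prod (Set.finite_lt_nat t)).subset fun x hx => by
      have : x.1 + x.2 < t := lt_of_not_ge fun H => hx ((dc_weak m h4 _ _).trans (gp_anti S (by omega)))
      exact ⟨show x.1 < t by omega, show x.2 < t by omega⟩) ⟨(0, 0), by simpa [gp_zero] using hna⟩
  have h2 : ⁅gp S (u + 1), gp S v⁆ ≤ gp S (t + 1) := by_contra fun H => by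
    have := mx (u + 1, v) H; simp at this
  have h3 : ⁅gp S u, gp S (v + 1)⁆ ≤ gp S (t + 1) := by_contra fun H => by
    have := mx (u, v + 1) H; simp at this
  have t1 : 1 ≤ t := Nat.pos_of_ne_zero fun e => h0 ((dc_weak m h4 _ _).trans (gp_anti S (by omega)))
  have h1 : ⁅gp S u, gp S v⁆ ≤ gp S t := by
    have l := S_n_gp S (t + 1)
    have : ⁅⁅gp S u, gp S v⁆, S⁆ ≤ gp S (t + 1) :=
      Core.three_subgroups_of_le_normalizer ((gp_le S u).trans l) ((gp_le S v).trans l) l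
        (by rwa [comm_gp m h4, commutator_comm]) (by rwa [commutator_comm S, comm_gp m h4])
    intro x hx
    rw [gp_eq S t1]
    refine mc_mem_of_comm m t1 ht (gp_le S _ (dc_weak m h4 u v hx)) fun y hy => ?_
    exact (commutator_le.1 this x hx y hy).2
  refine ⟨t - (u + v), fun h hh i hi => ?_⟩
  obtain ⟨hl, e⟩ := ww_pair m h4 hh ht h1 h2 h3 h0
  have k : ∀ i ≤ t, ww p S i h = ww p S 0 h * wa p S h ^ i := fun i hi => by
    simpa using ww_add m h4 hh (i := 0) (k := i) (by omega) (H.imp_left (by omega))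
  rw [k t le_rfl, k u (by omega), k v (by omega), show t = t - (u + v) + (u + v) by omega, pow_add,
    pow_add] at e
  rw [k i hi, pow_add]
  congr 1
  refine mul_left_cancel₀ (mul_ne_zero (ww_ne m h4 hh (i := 0) (by omega))
    (pow_ne_zero (u + v) (wa_ne m h4 hh))) ?_
  rw [pow_add]
  linear_combination -e

theorem wc (hx : kc S (n - 3) ≠ kc S 1) (hh : h ∈ normalizer (S : Set Γ)) (ha : wa p S h = -1)
    (hi : i + 3 ≤ n) (hw : ww p S i h = 1) : ww p S (i + 1) h = -1 ∧ ww p S (n - 2) h = -1 := by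
  have e := ww_add m h4 hh (i := 0) (k := i) (by omega) (Or.inl (by omega))
  rw [zero_add, hw, ha] at e
  have e' : ww p S 0 h ^ 2 = 1 := by
    have := congrArg (· ^ 2) e
    simp only [mul_pow, ← pow_mul, mul_comm i 2] at this
    simpa [pow_mul] using this.symm
  have := even_of_exc m h4 hx
  have l : ww p S (n - 2) h = -1 := by
    rw [ww_last m h4 hx hh, e', ha, one_mul, Odd.neg_one_pow ⟨(n - 4) / 2, by omega⟩]
  refine ⟨?_, l⟩
  by_cases H : i + 4 ≤ n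
  · rw [ww_succ m h4 hh hi (Or.inl H), hw, ha, one_mul]
  · rwa [show i + 1 = n - 2 by omega]

end CfsgLib.Fus5
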