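import Mathlib
import Cfsg.Agent.Lib.Fus5.Wz
import Cfsg.Agent.Lib.Fus5.Sum

/-!
Elementary abelian sections as modules.
-/

set_option autoImplicit false
set_option linter.unusedSectionVars false

namespace CfsgLib.Fus5

open Subgroup Module Cfsg CfsgLib.LAE CfsgLib.Fusion CfsgLib.MaxCl CfsgLib.Fus2 CfsgLib.Fus4
  CfsgLib.PLocal
open scoped commutatorElement

universe u

variable {Γ : Type u} [Group Γ] [Finite Γ] {p n j d t : ℕ} [hp : Fact p.Prime]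
  {S X Y Z L : Subgroup Γ} {e : Γ}

/-- The module `X / Y`. -/
structure Lin2 (p : ℕ) (X Y L : Subgroup Γ) {V : Type u} [AddCommGroup V] [Module (ZMod p) V]
    (q : Γ → V) (π : L →* End (ZMod p) V) (sb : Subgroup Γ → Submodule (ZMod p) V) : Prop where
  le : Y ≤ X
  nX : L ≤ normalizer (X : Set Γ)
  surj : ∀ v, ∃ e ∈ X, q e = v
  add : ∀ a ∈ X, ∀ b ∈ X, q (a * b) = q a + q b
  zpow : ∀ a ∈ X, ∀ i : ℤ, q (a ^ i) = (i : ZMod p) • q a
  act : ∀ g : L, ∀ e ∈ X, π g (q e) = q (g * e * (g : Γ)⁻¹)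
  zero : ∀ e ∈ X, q e = 0 ↔ e ∈ Y
  mem : ∀ Z v, v ∈ sb Z ↔ ∃ e ∈ X, e ∈ Z ∧ q e = v

theorem exists_lin2 (hYX : Y ≤ X) (hXL : X ≤ L) (nX : L ≤ normalizer (X : Set Γ))
    (nY : L ≤ normalizer (Y : Set Γ)) (h1 : ⁅X, X⁆ ≤ Y) (h2 : ∀ x ∈ X, x ^ p ∈ Y) :
    ∃ (V : Type u) (_ : AddCommGroup V) (_ : Module (ZMod p) V) (_ : Finite V) (q : Γ → V)
      (π : L →* End (ZMod p) V) (sb : Subgroup Γ → Submodule (ZMod p) V), Lin2 p X Y L q π sb := by
  classical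
  have : (Y.subgroupOf L).Normal := (normal_subgroupOf_iff_le_normalizer (hYX.trans hXL)).2 nY
  have : (X.subgroupOf L).Normal := (normal_subgroupOf_iff_le_normalizer hXL).2 nX
  let mk := QuotientGroup.mk' (Y.subgroupOf L)
  have hV : IsElementaryAbelian p ((X.subgroupOf L).map mk) := by
    refine ⟨⟨⟨?_⟩⟩, ?_⟩
    · rintro ⟨_, a, ha, rfl⟩ ⟨_, b, hb, rfl⟩
      refine Subtype.ext (commutatorElement_eq_one_iff_mul_comm.1 ?_)
      rw [← map_commutatorElement]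
      exact (QuotientGroup.eq_one_iff _).2 (h1 (commutator_mem_commutator ha hb))
    · rintro _ ⟨a, ha, rfl⟩
      rw [← map_pow]
      exact (QuotientGroup.eq_one_iff _).2 (h2 _ ha)
  have hN := (normalizer_eq_top_iff.2 (Normal.map this mk (QuotientGroup.mk'_surjective _))).ge
  let q : Γ → ElemMod hV := fun e =>
    if h : e ∈ X then ElemMod.ofG hV (mk ⟨e, hXL h⟩) ⟨_, h, rfl⟩ else 0
  have hq : ∀ e (h : e ∈ X), (q e).toG = mk ⟨e, hXL h⟩ := fun e h => by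
    simp only [q, dif_pos h]; rfl
  refine ⟨ElemMod hV, inferInstance, inferInstance, inferInstance, q,
    (ElemMod.rep hV hN).comp (mk.codRestrict ⊤ fun _ => mem_top _),
    fun Z => ElemMod.sub hV (((X ⊓ Z).subgroupOf L).map mk), hYX, nX, fun v => ?_,
    fun a ha b hb => ?_, fun a ha i => ?_, fun g e he => ?_, fun e he => ?_, fun Z v => ?_⟩
  · obtain ⟨e, he, e'⟩ := v.toG_mem
    exact ⟨e, he, ElemMod.toG_injective ((hq _ he).trans e')⟩
  · refine ElemMod.toG_injective ?_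
    rw [ElemMod.toG_add, hq _ ha, hq _ hb, hq _ (mul_mem ha hb), ← map_mul]; rfl
  · refine ElemMod.toG_injective ?_
    rw [ElemMod.toG_intCast_smul, hq _ ha, hq _ (zpow_mem ha i), ← map_zpow]; rfl
  · refine ElemMod.toG_injective ((ElemMod.toG_rep hN _ _).trans ?_)
    rw [hq _ he, hq _ (conj_mem (nX g.2) he)]; rfl
  · rw [← ElemMod.toG_eq_one, hq _ he]
    exact QuotientGroup.eq_one_iff _
  · rw [ElemMod.mem_sub]
    exact ⟨fun ⟨x, hx, e⟩ => ⟨x, hx.1, hx.2, ElemMod.toG_injective ((hq _ hx.1).trans e)⟩,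
      fun ⟨x, h1, h2, e⟩ => ⟨⟨x, hXL h1⟩, ⟨h1, h2⟩, e ▸ (hq _ h1).symm⟩⟩

namespace Lin2

variable {V : Type u} [AddCommGroup V] [Module (ZMod p) V] {q : Γ → V} {π : L →* End (ZMod p) V}
  {sb : Subgroup Γ → Submodule (ZMod p) V} {g : L} {v : V} (h : Lin2 p X Y L q π sb)
include h

theorem inv (he : e ∈ X) : q e⁻¹ = -q e := by simpa using h.zpow e he (-1)

theorem eq_iff {a b : Γ} (ha : a ∈ X) (hb : b ∈ X) : q a = q b ↔ a⁻¹ * b ∈ Y := by
  rw [← h.zero _ (mul_mem (inv_mem ha) hb), h.add _ (inv_mem ha) _ hb, h.inv ha, neg_add_eq_zero]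

theorem mem_of (he : e ∈ X) (hZ : e ∈ Z) : q e ∈ sb Z := (h.mem Z _).2 ⟨e, he, hZ, rfl⟩

theorem mem_iff (hY : Y ≤ Z) (he : e ∈ X) : q e ∈ sb Z ↔ e ∈ Z :=
  ⟨fun H => by
    obtain ⟨x, h1, h2, h3⟩ := (h.mem Z _).1 H
    simpa using Z.mul_mem h2 (hY ((h.eq_iff h1 he).1 h3)), h.mem_of he⟩

theorem mono {Z' : Subgroup Γ} (hZ : Z ≤ Z') : sb Z ≤ sb Z' := fun v hv => by
  obtain ⟨x, h1, h2, rfl⟩ := (h.mem Z _).1 hv
  exact h.mem_of h1 (hZ h2)

theorem eq_bot (hZ : Z ≤ Y) : sb Z = ⊥ := eq_bot_iff.2 fun v hv => by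
  obtain ⟨x, h1, h2, rfl⟩ := (h.mem Z _).1 hv
  exact (h.zero x h1).2 (hZ h2)

theorem eq_top (hZ : X ≤ Z) : sb Z = ⊤ := eq_top_iff.2 fun v _ => by
  obtain ⟨x, h1, rfl⟩ := h.surj v
  exact h.mem_of h1 (hZ h1)

theorem cm (g : L) (he : e ∈ X) : (π g - 1) (q e) = q ⁅g.1, e⁆ := by
  rw [LinearMap.sub_apply, h.act g e he, End.one_apply, sub_eq_iff_eq_add,
    ← h.add _ (cm_mem_right (h.nX g.2) he) e he, commutatorElement_def, inv_mul_cancel_right]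

theorem cm_zero (g : L) (he : e ∈ X) : (π g - 1) (q e) = 0 ↔ ⁅g.1, e⁆ ∈ Y := by
  rw [h.cm g he, h.zero _ (cm_mem_right (h.nX g.2) he)]

theorem one_iff : π g = 1 ↔ ∀ e ∈ X, ⁅g.1, e⁆ ∈ Y := by
  rw [← sub_eq_zero]
  refine ⟨fun H e he => by rw [← h.cm_zero g he, H]; rfl, fun H => LinearMap.ext fun v => ?_⟩
  obtain ⟨e, he, rfl⟩ := h.surj v
  exact (h.cm_zero g he).2 (H e he)

theorem ew {a : ℤ} (he : e ∈ X) (w : Ew g.1 a Z e) : π g (q e) - (a : ZMod p) • q e ∈ sb Z := by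
  have := h.mem_of (mul_mem (inv_mem (zpow_mem he a)) (conj_mem (h.nX g.2) he)) w
  rwa [h.add _ (inv_mem (zpow_mem he a)) _ (conj_mem (h.nX g.2) he), h.inv (zpow_mem he a),
    h.zpow _ he, ← h.act g e he, neg_add_eq_sub] at this

theorem ew_iff {a : ℤ} (he : e ∈ X) : π g (q e) = (a : ZMod p) • q e ↔ Ew g.1 a Y e := by
  rw [h.act g e he, ← h.zpow _ he, eq_comm, h.eq_iff (zpow_mem he a) (conj_mem (h.nX g.2) he)]; rfl

theorem fl {W : ℕ → Subgroup Γ} {k : ℕ} (H : ∀ t, ∀ e ∈ X, e ∈ W t → ⁅g.1, e⁆ ∈ W (t + k)) :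
    π g - 1 ∈ Fl (fun t => sb (W t)) k := fun t v hv => by
  obtain ⟨x, h1, h2, rfl⟩ := (h.mem _ _).1 hv
  exact h.cm g h1 ▸ h.mem_of (cm_mem_right (h.nX g.2) h1) (H t x h1 h2)

theorem card [Finite V] (hY : Y = ⊥) (hZ : Z ≤ X) : Nat.card (sb Z) = Nat.card Z :=
  (Nat.card_eq_of_bijective (fun x : Z => (⟨q x, h.mem_of (hZ x.2) x.2⟩ : sb Z))
    ⟨fun a b e => Subtype.ext (by
      simpa [hY, inv_mul_eq_one] using (h.eq_iff (hZ a.2) (hZ b.2)).1 (congrArg Subtype.val e)),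
    fun v => by
      obtain ⟨x, -, h2, e⟩ := (h.mem _ _).1 v.2
      exact ⟨⟨x, h2⟩, Subtype.ext e⟩⟩).symm

end Lin2

theorem Lin2.flag {V : Type u} [AddCommGroup V] [Module (ZMod p) V] {q : Γ → V}
    {π : L →* End (ZMod p) V} {sb : Subgroup Γ → Submodule (ZMod p) V}
    (h : Lin2 p (gp S j) (gp S (j + d)) L q π sb) (m : MC S p n) (h4 : 4 ≤ n) (hd : j + d + 1 ≤ n)
    {s : L} (hs : Un S n s) (he : e ∈ gp S j) (he' : e ∉ gp S (j + 1)) :
    Flag d (fun t => sb (gp S (j + t))) (π s - 1) (q e) := by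
  have c : ∀ t, ∃ c ∈ gp S (j + t), (t < d → c ∉ gp S (j + t + 1)) ∧
      ((π s - 1) ^ t) (q e) = q c := fun t => by
    induction t with
    | zero => exact ⟨e, he, fun _ => he', rfl⟩
    | succ t ih =>
      obtain ⟨c, h1, h2, h3⟩ := ih
      exact ⟨⁅s.1, c⁆, cm_swap (cm_gp h1 hs.1), fun ht H => hs.cm_not m h4 (by omega) h1
        (h2 (by omega)) (cm_swap H), by
          rw [pow_succ', End.mul_apply, h3, h.cm s (gp_anti S (by omega) h1)]⟩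
  refine ⟨fun a b hab => h.mono (gp_anti S (by omega)), h.eq_top le_rfl, h.eq_bot le_rfl,
    h.fl fun t e _ he => cm_swap (cm_gp he hs.1), fun t v hv => ?_, fun t ht H => ?_⟩
  · obtain ⟨c, h1, h2, h3⟩ := c t
    obtain ⟨x, hx', hx, rfl⟩ := (h.mem _ _).1 hv
    by_cases ht : t < d
    · obtain ⟨a, ha, i, rfl⟩ := exists_eq_mul_zpow (pg_gp m h4 _) (gp_anti S (Nat.le_succ _))
        (idx_gp m h4 (by omega)) h1 (h2 ht) hx
      have ha' := gp_anti S (show j ≤ _ by omega) ha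
      have h1' := gp_anti S (show j ≤ _ by omega) h1
      refine ⟨i, ?_⟩
      rw [h3, h.add _ ha' _ (zpow_mem h1' i), h.zpow _ h1', add_sub_cancel_right]
      exact h.mem_of ha' ha
    · exact ⟨0, by simp [(h.zero x hx').2 (gp_anti S (by omega) hx)]⟩
  · obtain ⟨c, h1, h2, h3⟩ := c t
    rw [h3] at H
    exact h2 ht ((h.mem_iff (gp_anti S (by omega)) (gp_anti S (by omega) h1)).1 H)

theorem ti_of_mod {G E y} (h : Mod p G E L) (hi : E.relIndex G = p) {K : Subgroup Γ} (hG : G ≤ K)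
    (hK : K ≤ L) (hy : y ∈ G) (hy' : y ∉ E) :
    TI p (E.subgroupOf K) (G.subgroupOf K) ⟨y, hG hy⟩ :=
  ⟨(normal_subgroupOf_iff_le_normalizer (h.le.trans hG)).2 (hK.trans h.norm),
    h.pG.comap_of_injective _ K.subtype_injective, subgroupOf_mono _ h.le,
    (relIndex_subgroupOf hG).trans hi, hy, hy', (h.syl.of_le hG hK).not_dvd_relIndex⟩

theorem mem_norm_subgroupOf {G K : Subgroup Γ} (hG : G ≤ K) {g : K} :
    g ∈ normalizer (G.subgroupOf K : Set K) ↔ g.1 ∈ normalizer (G : Set Γ) := by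
  rw [← subgroupOf_normalizer_eq hG]; rfl

end CfsgLib.Fus5
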