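import Mathlib
import Cfsg.Agent.Lib.Fus5.Lin
import Cfsg.Agent.Lib.Fus5.Feit

/-!
Normality of the Sylow subgroup in a model of the normalizer of `γ₁`.
-/

set_option autoImplicit false
set_option linter.unusedSectionVars false

namespace CfsgLib.Fus5

open Subgroup Module Cfsg CfsgLib.LAE CfsgLib.Fusion CfsgLib.MaxCl CfsgLib.Fus2 CfsgLib.Fus4
open scoped commutatorElement

universe u

variable {Γ : Type u} [Group Γ] [Finite Γ] {p n j d β : ℕ} [hp : Fact p.Prime]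
  {S H K X Y : Subgroup Γ} {g : Γ}

theorem Pr.wt_val (r : Pr p X Y) (hX : g ∈ normalizer (X : Set Γ)) (hY : g ∈ normalizer (Y : Set Γ)) :
    Wt g (wz p X Y g).val X Y := fun y hy => by
  obtain ⟨a, w, e⟩ := r.spec hX hY
  obtain ⟨k, hk⟩ := (ZMod.intCast_eq_intCast_iff_dvd_sub ((wz p X Y g).val : ℤ) a p).1 (by simp [e])
  convert X.mul_mem (zpow_mem (pow_mem_of_prime r.pg r.idx hy) k) (w y hy) using 1
  rw [← zpow_natCast y p, ← zpow_mul, ← hk]
  group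

theorem map_eq_one_of_pg {G : Type*} [Group G] (χ : G →* ZMod p) {g : G} (h : IsPGroup p (zpowers g)) :
    χ g = 1 := by
  obtain ⟨k, hk⟩ := h ⟨g, mem_zpowers g⟩
  rw [← ZMod.pow_card_pow (n := k) (χ g), ← map_pow, show g ^ p ^ k = 1 from congrArg Subtype.val hk,
    map_one]

/-- A model for `γ₁(S)` in which the weight on `S / γ₁(S)` is faithful. -/
structure Hm (p n : ℕ) (S H : Subgroup Γ) : Prop extends Mod p S (kc S 1) H where
  mc : MC S p n
  h4 : 4 ≤ n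
  na : ¬ ⁅kc S 1, kc S 1⁆ ≤ ⊥
  fa : ∀ g ∈ normalizer (S : Set Γ), wa p S g = 1 → ∀ i, i + 2 ≤ n → ww p S i g = 1

namespace Hm

variable (h : Hm p n S H)
include h

theorem lemA (hS : S ≤ K) (hK : K ≤ H) (ha : ∀ g ∈ K, g ∈ normalizer (S : Set Γ) → wa p S g = 1) :
    K ≤ S := by
  have pK := h.pE
  obtain ⟨h1, h2⟩ := (Core.map_frattini_le_iff_of_isPGroup pK).1 le_rfl
  obtain ⟨V, _, _, _, q, π, sb, l⟩ := exists_lin2 (map_subtype_le _) (h.le.trans hS) (hK.trans h.norm)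
    ((hK.trans h.norm).trans (Core.normalizer_le_normalizer_map_frattini _)) h1 h2
  obtain ⟨s, hs, -⟩ := exists_un h.mc h.h4
  have ti := ti_of_mod h.toMod (idx_kc h.mc h.h4) hS hK hs.1 hs.2.1
  have b : sb (gp S (p - 1)) = ⊥ := l.eq_bot (by simpa [gp_zero] using le_phi h.mc h.h4 h.na 0)
  have nil : ∀ Z : End (ZMod p) V, Z ∈ Fl (fun t => sb (gp S t)) 1 → Z ^ (p - 1) = 0 := fun Z hZ =>
    LinearMap.ext fun v => by
      simpa [b] using fl_pow hZ (p - 1) 0 v (l.eq_top (gp_zero S).ge ▸ Submodule.mem_top)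
  have s0 := nil _ (l.fl (g := ⟨s, hS hs.1⟩) fun t e _ he => cm_swap (cm_gp he hs.1))
  have key : ∀ i t, p - 1 ≤ t + i → ∀ g, ∀ v ∈ sb (gp S t), π g v - v ∈ sb (gp S (t + 1)) := fun i => by
    induction i with
    | zero => exact fun t ht g v hv => by simp [show v = 0 from b.le (l.mono (gp_anti S ht) hv)]
    | succ i ih =>
      intro t ht g v hv
      by_contra hx
      obtain ⟨ξ, h3, h0⟩ := Submodule.exists_dual_map_eq_bot_of_notMem hx inferInstance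
      refine h3 ((map_sub ξ _ _).trans (sub_eq_zero.2 ((ti.const (φ := fun g => ξ (π g v))
        (fun g u hu => ?_) (fun k g => ?_) g).trans (by simp))))
      · have hu' := (mem_norm_subgroupOf hS).1 hu
        have h5 : π u v - v ∈ sb (gp S (t + 1)) := by
          obtain ⟨x, h7, h8, rfl⟩ := (l.mem _ _).1 hv
          refine (show π u (q x) - q x = _ from l.cm u h7) ▸ l.mem_of (cm_mem_right (l.nX u.2) h7) ?_
          by_cases H : t + 2 ≤ n
          · exact ((pr_w h.mc h.h4 H).one_iff (n_gp hu' _) (n_gp hu' _)).1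
              (h.fa u hu' (ha u u.2 hu') t H) x h8
          · simp [(gp_bot h.mc h.h4 (by omega)).le h8 |> mem_bot.1]
        have h6 := add_mem (l.mono (gp_anti S (Nat.le_succ _)) (ih (t + 1) (by omega) g _ h5)) h5
        rw [sub_add_cancel, map_sub, ← End.mul_apply, ← map_mul] at h6
        exact sub_eq_zero.1 (map_sub ξ _ _ ▸ h0.le ⟨_, h6, rfl⟩)
      · convert pd_lin (ξ ∘ₗ π k) (v := π g v) (LinearMap.congr_fun s0 _) using 2
        simp [← map_pow]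
  refine (h.syl.eq_of_le (h.isPGroup_of_cent hK fun z hz hc => mem_centralizer_of_frattini hc pK
    ((l.one_iff (g := ⟨z, hz⟩)).1 ?_)) hS hK).le
  obtain ⟨k, hk⟩ := exists_pow_of_nil cast_p ⟨_, nil _ fun t => key (p - 1) t (by omega) ⟨z, hz⟩⟩
  obtain ⟨i, hi⟩ := exists_pow_eq_self_of_coprime (x := (⟨z, hz⟩ : K)) (n := p ^ k)
    (by rw [← orderOf_coe]; exact hc.symm.pow_left k)
  rw [← hi, map_pow, map_pow, hk, one_pow]

theorem mem_S (hg : g ∈ H) (hn : g ∈ normalizer (S : Set Γ)) (ha : wa p S g = 1) : g ∈ S := by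
  let χ := (pr_a h.mc h.h4).hom (H := H ⊓ normalizer (S : Set Γ)) (fun _ hg => n_kc hg.2 1) inf_le_right
  refine h.lemA (K := χ.toHomUnits.ker.map (Subgroup.subtype _)) (fun x hx => ⟨⟨x, h.GL' hx,
    le_normalizer hx⟩, Units.ext (map_eq_one_of_pg χ (pg_zpowers (h.pG.comap_of_injective _
      (subtype_injective _)) hx)), rfl⟩) ((map_subtype_le _).trans inf_le_left) ?_
        ⟨⟨g, hg, hn⟩, Units.ext ha, rfl⟩
  rintro _ ⟨x, hx, rfl⟩ -
  exact congrArg Units.val hx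

theorem ncl_le' : ncl H S ≤ H := ncl_le h.GL' le_normalizer

theorem pow_eq_one (χ : H →* ZMod p) {l : ZMod p} (hl : IsPrimitiveRoot l (p - 1)) {σ : H}
    (hσ : χ σ = l ^ β) (hg : g ∈ ncl H S) (hn : g ∈ normalizer (S : Set Γ)) : wa p S g ^ β = 1 := by
  have := hp.out.two_le
  have : NeZero (p - 1) := ⟨by omega⟩
  have k1 : ∀ x : H, x.1 ∈ ncl H S → χ x = 1 := fun x hx => by
    obtain ⟨y, hy, e⟩ := (ncl_le_iff (X := χ.toHomUnits.ker.map H.subtype)).2 (fun l hl b hb =>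
      ⟨⟨l, hl⟩ * ⟨b, h.GL' hb⟩ * ⟨l, hl⟩⁻¹, χ.toHomUnits.normal_ker.conj_mem _ (Units.ext
        (map_eq_one_of_pg χ (pg_zpowers (h.pG.comap_of_injective _ H.subtype_injective) hb))) _, rfl⟩) hx
    exact Subtype.ext e ▸ congrArg Units.val hy
  obtain ⟨c, hc, hn'⟩ := (h.syl.of_le (le_ncl H S) h.ncl_le').frattini (le_normalizer_ncl H S σ.2)
  have r := pr_a h.mc h.h4
  obtain ⟨k, -, hk⟩ := hl.eq_pow_of_pow_eq_one (ZMod.pow_card_sub_one_eq_one (wa_ne h.mc h.h4 hn))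
  obtain ⟨i, -, hi⟩ := hl.eq_pow_of_pow_eq_one (ZMod.pow_card_sub_one_eq_one (wa_ne h.mc h.h4 hn'))
  lift g to H using h.ncl_le' hg
  lift c to H using h.ncl_le' hc
  let a := (r.hom (H := normalizer (S : Set Γ)) (fun _ hg => n_kc hg 1) le_rfl).toHomUnits
  have e : a (⟨g, hn⟩ ^ i * (⟨c * σ, hn'⟩ ^ k)⁻¹) = 1 := by
    rw [map_mul, map_inv, mul_inv_eq_one, map_pow, map_pow, Units.ext_iff, Units.val_pow_eq_pow_val,
      Units.val_pow_eq_pow_val]
    change wa p S g ^ i = wa p S (c * σ) ^ k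
    rw [← hk, ← hi, ← pow_mul, ← pow_mul, mul_comm]
  have := k1 (g ^ i * ((c * σ) ^ k)⁻¹) (le_ncl H S (h.mem_S (g ^ i * ((c * σ) ^ k)⁻¹).2
    (mul_mem (pow_mem hn i) (inv_mem (pow_mem hn' k))) (congrArg Units.val e)))
  rw [map_mul, map_pow, k1 g hg, one_pow, one_mul, ← inv_pow, map_pow] at this
  have e2 : χ (c * σ) = l ^ β := by rw [map_mul, k1 c hc, one_mul, hσ]
  rw [← hk, ← pow_mul, mul_comm, pow_mul, ← e2, ← mul_one (_ ^ k), ← congrArg (_ * ·) this, ← mul_pow,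
    ← map_mul, mul_inv_cancel, map_one, one_pow]

theorem normal (ha : ∀ g ∈ ncl H S, g ∈ normalizer (S : Set Γ) → wa p S g = 1) :
    H ≤ normalizer (S : Set Γ) :=
  le_antisymm (h.lemA (le_ncl H S) h.ncl_le' ha) (le_ncl H S) ▸ le_normalizer_ncl H S

theorem normal_of_sec (n1 : H ≤ normalizer (gp S j : Set Γ)) (n2 : H ≤ normalizer (gp S (j + d) : Set Γ))
    (c1 : ⁅kc S 1, gp S j⁆ ≤ gp S (j + d)) (c2 : ∀ x ∈ gp S j, x ^ p ∈ gp S (j + d))
    (hn : j + d + 1 ≤ n) (h2 : 2 ≤ d) (hd : 2 * d + 1 ≤ p) (h0 : β ≠ 0) (hβ : 2 * β + 2 ≤ p)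
    (ha : ∀ g ∈ ncl H S, g ∈ normalizer (S : Set Γ) → wa p S g ^ β = 1) :
    H ≤ normalizer (S : Set Γ) := by
  have hS := le_ncl H S
  obtain ⟨V, _, _, _, q, π, sb, l⟩ := exists_lin2 (gp_anti S (j.le_add_right d)) ((gp_le S j).trans hS)
    (h.ncl_le'.trans n1) (h.ncl_le'.trans n2) ((commutator_mono (gp_le_kc S j) le_rfl).trans c1) c2
  obtain ⟨s, hs, -⟩ := exists_un h.mc h.h4
  obtain ⟨e, he, he'⟩ := exists_not_mem (idx_gp h.mc h.h4 (i := j) (by omega))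
  have kM : ∀ g : ncl H S, g.1 ∈ kc S 1 → π g = 1 := fun g hg => l.one_iff.2 (commutator_le.1 c1 g hg)
  refine h.normal fun g hg hn' => (ti_of_mod h.toMod (idx_kc h.mc h.h4) hS h.ncl_le' hs.1 hs.2.1).feit π kM
    (l.flag h.mc h.h4 hn (s := ⟨s, hS hs.1⟩) hs he he') h2 hd h0 hβ (w := fun g => wa p S g)
    (fun t ht => ?_) (fun K hK => eq_top_iff.2 fun x _ => ?_) ⟨g, hg⟩ ((mem_norm_subgroupOf hS).2 hn')
  · have ht' := (mem_norm_subgroupOf hS).1 ht
    refine ⟨?_, ha t t.2 ht'⟩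
    have := kM ((⟨s, hS hs.1⟩ ^ (wa p S t).val)⁻¹ * (t * ⟨s, hS hs.1⟩ * t⁻¹))
      (zpow_natCast s _ ▸ (pr_a h.mc h.h4).wt_val (n_kc ht' 1) ht' s hs.1 :)
    rw [← map_pow, ← mul_one (π (_ ^ _)), ← this, ← map_mul, mul_inv_cancel_left]
  · obtain ⟨y, hy, e⟩ := (ncl_le_iff (X := K.map (ncl H S).subtype)).2 (fun l hl b hb => by
      obtain ⟨k, hk⟩ := h.pG ⟨b, hb⟩
      exact ⟨⟨_, conj_mem_ncl hl hb⟩, hK _ (pg_of_pow (n := k) (Subtype.ext (by
        simpa [conj_pow] using congrArg Subtype.val hk))), rfl⟩) x.2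
    exact Subtype.ext e ▸ hy

end Hm

end CfsgLib.Fus5
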