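import Mathlib
import Cfsg.Agent.Lib.Fus4.QZ

/-!
The subgroup `SL(2, p)` attached to a quadratic element and its split torus.
-/

set_option autoImplicit false
set_option linter.unusedSectionVars false

namespace CfsgLib.Fus5

open Polynomial Subgroup Module CfsgLib.Dickson CfsgLib.QuadPair CfsgLib.Fusion CfsgLib.Fus4
open scoped MatrixGroups

variable {p : ℕ} [hp : Fact p.Prime]

section

variable {R G : Type*} [Ring R] [Algebra (ZMod p) R] [Group G] [Finite G] {ρ : G →* R} {A B : R}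
  {x y : G} {M : Subgroup G}

theorem exists_x_core (hρ : Function.Injective ρ) (h5 : 5 ≤ p) (hA : A * A = 0) (hy : ρ y = 1 + A)
    {K : Type} [Field K] [CharP K p] {c : K} (hc : c ≠ 0) {π : G →* SL(2, K)} (πx : π x = SL2.uu c)
    (πy : π y = SL2.ll 1) (hyM : y ∈ M) (hxM : x ∉ M)
    (spe : ∀ g, ∀ u ∈ M, IsPGroup p (zpowers u) → u ≠ 1 → g * u * g⁻¹ ∈ M → g ∈ M)
    (mn : ∀ k, k * y * k⁻¹ ∉ M → x ∈ closure {k * y * k⁻¹, y}) :
    ∃ h ∉ M, ∃ B, B * B = 0 ∧ ρ (h * y * h⁻¹) = 1 + B ∧ A * B * A = -A ∧ B * A * B = -B := by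
  have hR : ((p : ℕ) : R) = 0 := cast_p'
  have rig : ∀ g, g * y * g⁻¹ ∈ M → g ∈ M := fun g => spe g y hyM
    (pg_of_pow (n := 1) (by simpa using pow_p_quad hρ hA hy)) fun e => by
      simpa [e] using congrArg (fun a : SL(2, K) => a 1 0) πy
  obtain ⟨h, hh⟩ : ∃ h, slPGL K (π h) = slPGL K (SL2.mk2 0 1 (-1) 0 (by simp)) := by
    have : Finite π.range := Finite.of_surjective _ π.rangeRestrict_surjective
    have : Finite (π.range.map (slPGL K)) :=
      Finite.of_surjective _ ((slPGL K).subgroupMap_surjective π.range)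
    rcases two_transvections_pgl p (by omega) (π.range.map (slPGL K)) hc
      ⟨_, ⟨x, πx⟩, slPGL_uu c⟩ ⟨_, ⟨y, πy⟩, slPGL_ll 1⟩ with ⟨K₀, -, -, hG⟩ | ⟨h3, -⟩
    · have hle : (pslMap K₀.subtype).range ≤ π.range.map (slPGL K) :=
        hG.elim (fun e => e.ge) (fun e => (range_pslMap_le_range_pglMap _).trans e.ge)
      obtain ⟨_, ⟨h, rfl⟩, e⟩ := hle ⟨(SL2.mk2 0 1 (-1) 0 (by simp) : SL(2, K₀)), rfl⟩
      refine ⟨h, e.trans ?_⟩
      rw [pslMap_apply, pslPGL_mk, slPGL_mk2, map_pm, slPGL_mk2]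
      exact pm_congr (by simp) (by simp) (by simp) (by simp)
    · omega
  have hw : ∀ a : SL(2, K), π h * a * (π h)⁻¹ =
      SL2.mk2 0 1 (-1) 0 (by simp) * a * (SL2.mk2 0 1 (-1) 0 (by simp))⁻¹ := fun a => by
    rcases slPGL_eq_iff.1 hh with e | e <;> simp [e]
  have kM : π.ker ≤ M := fun k hk => by
    by_contra H
    have : x ∈ (centralizer {SL2.ll (1 : K)}).comap π := (closure_le _).2 (by
      rintro _ (rfl | rfl) <;>
        simp [mem_centralizer_singleton_iff, πy, show π k = 1 from hk]) (mn k fun H' => H (rig k H'))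
    rw [mem_comap, mem_centralizer_singleton_iff, πx] at this
    simpa [SL2.mul_ap, hc] using congrArg (fun a : SL(2, K) => a 0 0) this
  have hM : h ∉ M := fun H => hxM (by
    have e : π (h⁻¹ * x * h) = SL2.ll (-c) := by
      rw [map_mul, map_mul, map_inv, mul_assoc, inv_mul_eq_iff_eq_mul, ← eq_mul_inv_iff_mul_eq, πx, hw]
      apply SL2.ext2 <;> simp [SL2.mul_ap, SL2.inv_00, SL2.inv_01, SL2.inv_10, SL2.inv_11]
    have := rig (h⁻¹ * x * h) ((mul_mem_cancel_right (inv_mem hyM)).1 (kM (by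
      rw [MonoidHom.mem_ker, map_mul, map_mul, map_mul, map_inv, map_inv, e, πy, ← SL2.ll_add,
        add_comm, SL2.ll_add]
      group)))
    rwa [mul_mem_cancel_right H, mul_mem_cancel_left (inv_mem H)] at this)
  have kp : ∀ k ∈ π.ker, IsPGroup p (zpowers k) → k = 1 := fun k hk H => not_not.1 fun H' =>
    hM (spe h k (kM hk) H H' (kM (π.normal_ker.conj_mem k hk h)))
  have kc : ∀ k ∈ π.ker, k * y * k⁻¹ = y := fun k => comm_of_quad hρ h5 hA hy fun H => by
    obtain ⟨k, hk⟩ := exists_prime_orderOf_dvd_card' p H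
    have := kp k k.2 (pg_of_pow (n := 1) (by
      rw [pow_one, ← hk, ← orderOf_coe, pow_orderOf_eq_one]))
    rw [show k = 1 from Subtype.ext this, orderOf_one] at hk
    omega
  obtain ⟨B, hB, hy'⟩ := conj_quad hA hy h
  have πy' : π (h * y * h⁻¹) = SL2.uu (-1) := by
    rw [map_mul, map_mul, map_inv, hw, πy]
    apply SL2.ext2 <;> simp [SL2.mul_ap, SL2.inv_00, SL2.inv_01, SL2.inv_10, SL2.inv_11]
  have kc' : ∀ k ∈ π.ker, k * (h * y * h⁻¹) * k⁻¹ = h * y * h⁻¹ := fun k hk => by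
    rw [← kc _ (π.normal_ker.conj_mem' k hk h)]
    nth_rewrite 1 [kc _ (π.normal_ker.conj_mem' k hk h)]
    group
  refine ⟨h, hM, B, hB, hy', ?_⟩
  generalize h * y * h⁻¹ = y' at hy' πy' kc'
  have cm : ∀ k u C, ρ u = 1 + C → k * u * k⁻¹ = u → Commute (ρ k - 1) C := fun k u C e H => by
    have := congrArg ρ (mul_inv_eq_iff_eq_mul.1 H)
    rw [map_mul, map_mul, e, mul_add, add_mul, mul_one, one_mul, add_right_inj] at this
    exact Commute.sub_left this (Commute.one_left _)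
  have k1 : y * y' * y * (y' * y * y')⁻¹ ∈ π.ker := by
    rw [MonoidHom.mem_ker, map_mul, map_inv, mul_inv_eq_one]
    simp only [map_mul, πy, πy']
    apply SL2.ext2 <;> simp [SL2.mul_ap]
  have e1 : ρ (y' * y * y') = (1 + B) * (1 + A) * (1 + B) := by simp only [map_mul, hy, hy']
  have e2 : ρ (y * y' * y) = (1 + A) * (1 + B) * (1 + A) := by simp only [map_mul, hy, hy']
  have k2 := kp _ k1 (pg_of_nil hρ hR ⟨3, by
    have := braid_nil hA hB (cm _ _ _ hy (kc _ k1)) (cm _ _ _ hy' (kc' _ k1)) (by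
      rw [add_sub_cancel, ← e1, ← map_mul, inv_mul_cancel_right, e2])
    rwa [← e1, ← map_pow, ← ρ.coe_toHomUnits (_ ^ 2), Units.mul_left_eq_zero] at this⟩)
  have br : (1 + B) * (1 + A) * (1 + B) = (1 + A) * (1 + B) * (1 + A) := by
    rw [← e1, ← e2, mul_inv_eq_one.1 k2]
  obtain ⟨-, e4⟩ := braid_pow hA hB br
  have k3 : (y * y' * y) ^ 4 = 1 := kp _ (by
    rw [MonoidHom.mem_ker, map_pow, map_mul, map_mul, πy, πy']
    apply SL2.ext2 <;> simp [SL2.mul_ap, pow_succ]) (pg_of_nil hρ hR ⟨2, by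
      rw [map_pow, e2, e4, add_sub_cancel_left, show (12 : R) = (12 : ℕ) by simp, ← nsmul_eq_mul,
        _root_.smul_pow, sq (A + _)]
      simp [mul_add, add_mul, mul_assoc, ← mul_assoc A A, hA]⟩)
  rw [← e2, ← map_pow, k3, map_one, left_eq_add, show (12 : R) = (12 : ℕ) by simp, ← nsmul_eq_mul,
    ← Nat.cast_smul_eq_nsmul (ZMod p), smul_eq_zero, ZMod.natCast_eq_zero_iff] at e4
  have e5 := e4.resolve_left fun H => by
    rcases (Nat.Prime.dvd_mul hp.out (m := 2 ^ 2) (n := 3)).1 H with H | H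
    · have := Nat.le_of_dvd (by omega) (hp.out.dvd_of_dvd_pow H)
      omega
    · have := Nat.le_of_dvd (by omega) H
      omega
  exact ⟨eq_neg_of_add_eq_zero_right e5, by linear_combination (norm := noncomm_ring) br + e5 + hA - hB⟩

theorem exists_x (hρ : Function.Injective ρ) (h5 : 5 ≤ p) (hA : A * A = 0) (hy : ρ y = 1 + A)
    {X : Subgroup G} (hyX : y ∈ X) (hyM : y ∈ M) (y1 : y ≠ 1) (hM : ¬ X ≤ M)
    (spe : ∀ g ∈ X, ∀ u ∈ M, IsPGroup p (zpowers u) → u ≠ 1 → g * u * g⁻¹ ∈ M → g ∈ M) :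
    ∃ h ∈ X, h ∉ M ∧ ∃ B, B * B = 0 ∧ ρ (h * y * h⁻¹) = 1 + B ∧ A * B * A = -A ∧ B * A * B = -B := by
  have py : IsPGroup p (zpowers y) := pg_of_pow (n := 1) (by simpa using pow_p_quad hρ hA hy)
  obtain ⟨g, ⟨hg, hgM⟩, mn⟩ := exists_minimalFor_of_wellFoundedLT (fun g => g ∈ X ∧ g ∉ M)
    (fun g => closure {g * y * g⁻¹, y}) (SetLike.not_le_iff_exists.1 hM)
  have hle : closure {g * y * g⁻¹, y} ≤ X := (closure_le _).2 (by
    rintro _ (rfl | rfl)
    exacts [mul_mem (mul_mem hg hyX) (inv_mem hg), hyX])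
  obtain ⟨B, hB, hx⟩ := conj_quad hA hy g
  have my : y ∈ closure {g * y * g⁻¹, y} := subset_closure (by simp)
  have mx : g * y * g⁻¹ ∈ closure {g * y * g⁻¹, y} := subset_closure (by simp)
  have hxM : g * y * g⁻¹ ∉ M := fun H => hgM (spe g hg y hyM py y1 H)
  by_cases hz : IsNilpotent (B * A + A * B)
  · have := (isPGroup_of_nilpotent hρ (cast_p' (p := p)) hB hA hx hy hz).isNilpotent
    have h1 := normalizerCondition_iff_only_full_group_self_normalizing.1
      (Group.normalizerCondition_of_isNilpotent (G := (closure {g * y * g⁻¹, y} : Subgroup G)))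
      (M.subgroupOf _) (le_antisymm (fun (k : closure {g * y * g⁻¹, y}) hk => spe k.1 (hle k.2) y hyM py y1
        ((mem_normalizer_iff.1 hk ⟨y, my⟩).1 hyM)) le_normalizer)
    exact absurd (h1 ▸ mem_top _ : (⟨_, mx⟩ : closure {g * y * g⁻¹, y}) ∈ M.subgroupOf _) hxM
  obtain ⟨K, _, c, π, _, hc, πx, πy⟩ := exists_sl2 (cast_p' (p := p)) hB hA hx hy hz
  obtain ⟨z, H⟩ := exists_x_core (ρ := ρ.comp (Subgroup.subtype _)) (M := M.subgroupOf _)
    (hρ.comp Subtype.val_injective) h5 hA hy hc πx πy hyM hxM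
    (fun k u hu pu u1 H => spe k (hle k.2) u hu 
      (MonoidHom.map_zpowers (Subgroup.subtype _) u ▸ pu.map (Subgroup.subtype _)) (fun e => u1 (Subtype.ext e)) H)
    fun k hk => by
      have := mn (j := k.1) ⟨hle k.2, fun H => hk (mul_mem (mul_mem H hyM) (inv_mem H))⟩
        ((closure_le _).2 (by
          rintro _ (rfl | rfl)
          exacts [mul_mem (mul_mem k.2 my) (inv_mem k.2), my])) mx
      rw [← mem_map_iff_mem (subtype_injective _), MonoidHom.map_closure]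
      simpa [Set.image_pair] using this
  exact ⟨z, hle z.2, H⟩

theorem exists_h (hA : A * A = 0) (hB : B * B = 0) (hy : ρ y = 1 + A) (hx : ρ x = 1 + B)
    (e : A * B * A = -A) (e' : B * A * B = -B) {X : Subgroup G} (hyX : y ∈ X) (hxX : x ∈ X)
    {a b : ZMod p} (hab : a * b = 1) :
    ∃ h ∈ X, ρ h = 1 + (1 - a) • (A * B) + (1 - b) • (B * A) := by
  have w : ∀ a b : ZMod p, a * b = 1 → ρ (y ^ a.val * x ^ b.val * y ^ a.val) =
      1 + a • A + b • B + A * B + B * A := fun a b hab => by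
    simp only [map_mul, pow_quad (p := p) hA hy, pow_quad (p := p) hB hx, ZMod.natCast_zmod_val,
      mul_add, add_mul, mul_one, one_mul, smul_mul_assoc, mul_smul_comm, hA, e, smul_zero, smul_neg]
    match_scalars <;> first | ring1 | linear_combination hab | linear_combination -a * hab
  have m : ∀ a b : ZMod p, y ^ a.val * x ^ b.val * y ^ a.val ∈ X := fun a b =>
    mul_mem (mul_mem (pow_mem hyX _) (pow_mem hxX _)) (pow_mem hyX _)
  refine ⟨_, mul_mem (m a b) (m (-1) (-1)), ?_⟩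
  have f1 : A * (B * A) = -A := mul_assoc A B A ▸ e
  have f2 : B * (A * B) = -B := mul_assoc B A B ▸ e'
  have f3 : ∀ Z, A * (A * Z) = 0 := fun Z => by rw [← mul_assoc, hA, zero_mul]
  have f4 : ∀ Z, B * (B * Z) = 0 := fun Z => by rw [← mul_assoc, hB, zero_mul]
  rw [map_mul, w a b hab, w _ _ (by simp)]
  simp only [mul_add, add_mul, mul_one, one_mul, smul_mul_assoc, mul_assoc, f1, f2, f3,
    f4, hA, hB, mul_neg, mul_zero, smul_zero, neg_smul, one_smul, smul_neg]
  module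

end

variable {V : Type*} [AddCommGroup V] [Module (ZMod p) V] [Finite V]
  {G M P : Subgroup (End (ZMod p) V)ˣ} {y h k : (End (ZMod p) V)ˣ} {A B : End (ZMod p) V}

local notation "R" => End (ZMod p) V

theorem tor_norm (syl : SylIn p P G) (cP : ∀ x ∈ P, Commute x y) (hA : A = (y : R) - 1)
    (h2 : A * A = 0) (hG : h ∈ G) {a b : ZMod p} (hab : a * b = 1) (zA : (h : R) * A = a • A)
    (Az : A * h = b • A) (hk : ∀ v, A v = 0 → (h : R) v - v ∈ LinearMap.range A) :
    h ∈ normalizer (P : Set Rˣ) := by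
  have cm : ∀ g : Rˣ, g ∈ centralizer {y} ↔ Commute (g : R) A := fun g => by
    rw [mem_centralizer_singleton_iff, hA, Units.ext_iff, Commute, SemiconjBy, mul_sub, sub_mul,
      mul_one, one_mul, sub_left_inj]; rfl
  have PC : P ≤ G ⊓ centralizer {y} :=
    le_inf syl.le fun x hx => mem_centralizer_singleton_iff.2 (cP x hx)
  have s0 : ∀ g : Rˣ, g ∈ st ⊤ ⊤ := fun g => mem_st_self fun v => by simp
  have s1 : G ⊓ centralizer {y} ≤ st (LinearMap.ker A) (LinearMap.ker A) := le_st fun g hg v hv => by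
    rw [LinearMap.mem_ker] at hv ⊢
    rw [← End.mul_apply, ← ((cm g).1 hg.2).eq, End.mul_apply, hv, map_zero]
  have s2 : G ⊓ centralizer {y} ≤ st (LinearMap.range A) (LinearMap.range A) := le_st (by
    rintro g hg _ ⟨w, rfl⟩
    exact ⟨_, by rw [← End.mul_apply, ← ((cm g).1 hg.2).eq, End.mul_apply]⟩)
  have s3 : (⊤ : Subgroup Rˣ) ≤ st ⊥ ⊥ := le_st fun g _ v hv => by simp [(Submodule.mem_bot _).1 hv]
  have hN := (syl.of_le PC inf_le_left).le_of_le_normalizer (N := (G ⊓ centralizer {y}) ⊓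
      (st ⊤ (LinearMap.ker A) ⊓ (st (LinearMap.ker A) (LinearMap.range A) ⊓ st (LinearMap.range A) ⊥)))
    (isPGroup_of_nil cast_p fun g hg => ⟨3, LinearMap.ext fun v =>
      hg.2.2.2.2 _ (hg.2.2.1.2 _ (hg.2.1.2 v trivial))⟩) inf_le_left
    fun g hg => mem_normalizer_fintype fun n hn => ⟨Subgroup.mul_mem _ (mul_mem hg hn.1) (inv_mem hg),
      st_conj (s0 g) (s1 hg) hn.2.1, st_conj (s1 hg) (s2 hg) hn.2.2.1, st_conj (s2 hg) (s3 trivial) hn.2.2.2⟩
  have zA' : (↑h⁻¹ : R) * A = b • A := by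
    rw [Units.inv_mul_eq_iff_eq_mul, mul_smul_comm, zA, smul_smul, mul_comm, hab, one_smul]
  have Az' : A * ↑h⁻¹ = a • A := by
    rw [Units.mul_inv_eq_iff_eq_mul, smul_mul_assoc, Az, smul_smul, hab, one_smul]
  have b0 : b ≠ 0 := right_ne_zero_of_mul_eq_one hab
  have z1 : h ∈ st (LinearMap.ker A) (LinearMap.range A) := ⟨fun v => by
    simp [← End.mul_apply A h, Az, b0], hk⟩
  refine mem_normalizer_fintype fun x hx => ?_
  have xC := PC hx
  have c := ((cm x).1 xC.2).eq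
  have e1 : (↑(h * x * h⁻¹) : R) * A = A * x := by
    rw [Units.val_mul, Units.val_mul, mul_assoc, zA', mul_smul_comm, mul_assoc, c, ← mul_assoc, zA,
      smul_mul_assoc, smul_smul, mul_comm b, hab, one_smul]
  have e2 : A * (↑(h * x * h⁻¹) : R) = A * x := by
    rw [Units.val_mul, Units.val_mul, ← mul_assoc, ← mul_assoc, Az, smul_mul_assoc, smul_mul_assoc, ← c,
      mul_assoc, Az', mul_smul_comm, smul_smul, mul_comm b, hab, one_smul]
  have hC : h * x * h⁻¹ ∈ G ⊓ centralizer {y} :=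
    ⟨G.mul_mem (mul_mem hG xC.1) (inv_mem hG), (cm _).2 (e1.trans e2.symm)⟩
  have hC' := mul_mem hC (inv_mem xC)
  refine (mul_mem_cancel_right (inv_mem hx)).1 (hN ⟨hC', ⟨fun v => by simp, fun v _ => ?_⟩, ?_,
    (s2 hC').1, ?_⟩)
  · rw [LinearMap.mem_ker, map_sub, ← End.mul_apply, Units.val_mul, ← mul_assoc, e2,
      Units.mul_inv_cancel_right, sub_self]
  · have := mul_mem z1 (st_conj (s1 xC) (s2 xC) (inv_mem z1))
    rwa [← mul_assoc, ← mul_assoc, mul_assoc _ x, mul_assoc _ (x * _), ← mul_assoc, ← mul_assoc] at this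
  · rintro _ ⟨w, rfl⟩
    rw [← End.mul_apply, Units.val_mul, mul_assoc, ((cm _).1 (inv_mem xC.2)).eq, ← mul_assoc, e1,
      Units.mul_inv_cancel_right, sub_self]
    exact zero_mem _

theorem rank_one (syl : SylIn p P G) (hPM : P ≤ M)
    (spe : ∀ g ∈ G, ∀ u ∈ M, IsPGroup p (zpowers u) → u ≠ 1 → g * u * g⁻¹ ∈ M → g ∈ M)
    (yP : y ∈ P) (y1 : y ≠ 1) (cP : ∀ x ∈ P, Commute x y) (hA : A = (y : R) - 1) (h2 : A * A = 0)
    (hk : k ∈ G) (hkM : k ∉ M) (hB : B * B = 0) (hx : (↑(k * y * k⁻¹) : R) = 1 + B)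
    (e : A * B * A = -A) (e' : B * A * B = -B) {z : V} (hz : ∀ v, ∃ c : ZMod p, A v = c • z)
    (hP : ∀ u ∈ P, (u : R) z = z) : P ≤ zpowers y := fun u hu => by
  have hy : Units.coeHom R y = 1 + A := by simp [hA]
  have pn : ∀ {u : Rˣ} {C : R}, (u : R) = 1 + C → C * C = 0 → IsPGroup p (zpowers u) := fun H H' =>
    pg_of_nil (ρ := Units.coeHom R) Units.val_injective cast_p ⟨2, by simp [H, sq, H']⟩
  have sp : ∀ g ∈ G, ∀ u : Rˣ, k⁻¹ * u * k ∈ M → IsPGroup p (zpowers u) → u ≠ 1 →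
      k⁻¹ * (g * u * g⁻¹) * k ∈ M → k⁻¹ * g * k ∈ M := fun g hg u h1 h3 h4 h5 =>
    spe _ (G.mul_mem (mul_mem (inv_mem hk) hg) hk) _ h1
      (by
        have := h3.map (MulAut.conj k⁻¹).toMonoidHom
        rwa [MonoidHom.map_zpowers, show (MulAut.conj k⁻¹).toMonoidHom u = k⁻¹ * u * k by simp] at this)
      (by simpa [mul_eq_one_iff_eq_inv] using h4)
      (by simpa [mul_assoc] using h5)
  obtain ⟨v, hv⟩ : ∃ v, A v ≠ 0 := by
    by_contra! H
    exact y1 (Units.ext (sub_eq_zero.1 (hA ▸ LinearMap.ext H)))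
  obtain ⟨c, hc⟩ := hz v
  have c0 : c ≠ 0 := fun H => hv (by simp [hc, H])
  have Az : A (B z) = -z := smul_right_injective V c0 (by
    simpa [hc] using LinearMap.congr_fun e v)
  have rB : ∀ v, ∃ c : ZMod p, B v = c • B z := fun v => by
    obtain ⟨c, hc⟩ := hz (B v)
    exact ⟨-c, by simpa [hc, neg_eq_iff_eq_neg] using (LinearMap.congr_fun e' v).symm⟩
  obtain ⟨c₁, h1⟩ := rB ((u : R) (B z))
  have h3 : A ((u : R) (B z)) = -z := by
    rw [← End.mul_apply, hA, ← ((cP u hu).units_val.sub_right (Commute.one_right _)).eq, ← hA,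
      End.mul_apply, Az, map_neg, hP u hu]
  have uP := P.mul_mem (pow_mem yP c₁.val) hu
  have h4 : B ((↑(y ^ c₁.val * u) : R) (B z)) = 0 := by
    rw [Units.val_mul, show (↑(y ^ c₁.val) : R) = _ from pow_quad (p := p) h2 hy _]
    simp [h1, h3]
  suffices H : y ^ c₁.val * u = 1 from
    eq_inv_of_mul_eq_one_right H ▸ inv_mem (pow_mem (mem_zpowers y) _)
  generalize y ^ c₁.val * u = w at uP h4
  have xG : k * y * k⁻¹ ∈ G := G.mul_mem (mul_mem hk (syl.le yP)) (inv_mem hk)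
  have xM : k⁻¹ * (k * y * k⁻¹) * k ∈ M := by simpa [mul_assoc] using hPM yP
  have x1 : k * y * k⁻¹ ≠ 1 := by simpa [mul_inv_eq_one] using y1
  generalize k * y * k⁻¹ = x at hx xG xM x1
  obtain ⟨B', hB', hx'⟩ : ∃ B' : R, B' = w * B * ↑w⁻¹ ∧ (↑(w * x * w⁻¹) : R) = 1 + B' :=
    ⟨_, rfl, by simp [hx, mul_add, add_mul]⟩
  have f1 : B * B' = 0 := LinearMap.ext fun v => by
    obtain ⟨c, hc⟩ := rB ((↑w⁻¹ : R) v)
    simp [hB', hc, h4]
  have f2 : B' * B' = 0 := by
    rw [hB', mul_assoc, mul_assoc, mul_assoc, Units.inv_mul_cancel_left, ← mul_assoc B, hB, zero_mul,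
      mul_zero]
  have wG := syl.le uP
  have x'G : w * x * w⁻¹ ∈ G := G.mul_mem (mul_mem wG xG) (inv_mem wG)
  have x'M : k⁻¹ * (w * x * w⁻¹) * k ∈ M := by
    generalize w * x * w⁻¹ = x' at hx' x'G
    have f3 : (↑((x * x')⁻¹ * (x' * x)) : R) = 1 + B' * B := by
      rw [Units.val_mul, Units.inv_mul_eq_iff_eq_mul, Units.val_mul, Units.val_mul, hx, hx']
      linear_combination (norm := noncomm_ring) -f1 - f1 * B - f2 * B - f1 * B' * B
    have cG := G.mul_mem (G.inv_mem (mul_mem xG x'G)) (mul_mem x'G xG)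
    by_cases H : (x * x')⁻¹ * (x' * x) = 1
    · exact sp x' x'G x xM (pn hx hB) x1 (by rwa [← inv_mul_eq_one.1 H, mul_inv_cancel_right])
    generalize (x * x')⁻¹ * (x' * x) = c at f3 cG H
    have f4 : c * x = x * c := Units.ext (by
      rw [Units.val_mul, Units.val_mul, hx, f3]
      linear_combination (norm := noncomm_ring) B' * hB - f1 * B)
    have f5 : x' * c = c * x' := Units.ext (by
      rw [Units.val_mul, Units.val_mul, hx', f3]
      linear_combination (norm := noncomm_ring) f2 * B - B' * f1)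
    have cM := sp c cG x xM (pn hx hB) x1 (by rwa [f4, mul_inv_cancel_right])
    exact sp x' x'G c cM (pn f3 (by linear_combination (norm := noncomm_ring) B' * f1 * B)) H
      (by rwa [f5, mul_inv_cancel_right])
  by_contra H
  exact hkM (inv_mem_iff.1 (spe _ (inv_mem hk) w (hPM uP) (syl.isPGroup.to_le (zpowers_le.2 uP)) H
    (by simpa using sp w wG x xM (pn hx hB) x1 x'M)))

end CfsgLib.Fus5
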