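import Mathlib
import Cfsg.Agent.Lib.Fus5.Lin
import Cfsg.Agent.Lib.Fus5.Tor
import Cfsg.Agent.Lib.Fusion.Factor2

/-!
The torus element acting on `Ω₁ Z(E)`.
-/

set_option autoImplicit false
set_option linter.unusedSectionVars false

namespace CfsgLib.Fus5

open Subgroup Module Cfsg CfsgLib.LAE CfsgLib.Fusion CfsgLib.MaxCl CfsgLib.Fus2 CfsgLib.Fus4
open scoped commutatorElement

universe u

variable {Γ : Type u} [Group Γ] [Finite Γ] {p : ℕ} [hp : Fact p.Prime] {N E L : Subgroup Γ}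
  {M : Subgroup L} {g v y : Γ} {a b : ℤ}

/-- `Ω₁ Z(E)`. -/
def om (p : ℕ) (E : Subgroup Γ) : Subgroup Γ where
  carrier := {v | v ∈ E ∧ v ∈ centralizer (E : Set Γ) ∧ v ^ p = 1}
  one_mem' := ⟨one_mem _, one_mem _, one_pow p⟩
  mul_mem' := fun ha hb => ⟨mul_mem ha.1 hb.1, mul_mem ha.2.1 hb.2.1, by
    rw [(commute_of_mem ha.2.1 hb.1).mul_pow, ha.2.2, hb.2.2, one_mul]⟩
  inv_mem' := fun ha => ⟨inv_mem ha.1, inv_mem ha.2.1, by rw [inv_pow, ha.2.2, inv_one]⟩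

theorem om_le (p : ℕ) (E : Subgroup Γ) : om p E ≤ E := fun _ h => h.1

theorem n_om (hg : g ∈ normalizer (E : Set Γ)) : g ∈ normalizer (om p E : Set Γ) :=
  mem_normalizer_fintype fun v hv => ⟨conj_mem hg hv.1,
    conj_mem (Core.normalizer_le_normalizer_centralizer (E : Set Γ) hg) hv.2.1, by
      rw [conj_pow, hv.2.2, mul_one, mul_inv_cancel]⟩

theorem cm_om (hg : g ∈ E) (hv : v ∈ om p E) : ⁅g, v⁆ = 1 := cm_eq_one' hv.2.1 hg

theorem exists_lin_om (hE : E ≤ L) (hL : L ≤ normalizer (E : Set Γ)) :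
    ∃ (V : Type u) (_ : AddCommGroup V) (_ : Module (ZMod p) V) (_ : Finite V) (q : Γ → V)
      (π : L →* End (ZMod p) V) (sb : Subgroup Γ → Submodule (ZMod p) V),
      Lin2 p (om p E) ⊥ L q π sb :=
  exists_lin2 bot_le ((om_le p E).trans hE) (fun _ hg => n_om (hL hg)) (norm_bot L)
    (commutator_le.2 fun _ a _ b => cm_om a.1 b) fun _ h => h.2.2

/-- A model with a strongly embedded subgroup containing the centraliser of `Ω₁ Z(E)`. -/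
structure Sp (p : ℕ) (N E L : Subgroup Γ) (M : Subgroup L) : Prop extends Mod p N E L where
  le' : N.subgroupOf L ≤ M
  ne : M ≠ ⊤
  spe : ∀ g, ∀ u ∈ M, IsPGroup p (zpowers u) → u.1 ∉ E → g * u * g⁻¹ ∈ M → g ∈ M
  cen : ∀ g : L, g.1 ∈ centralizer (om p E : Set Γ) → g ∈ M

theorem Sp.mem_E (h : Sp p N E L M) (hg : g ∈ N) (hc : g ∈ centralizer (om p E : Set Γ)) : g ∈ E := by
  by_contra H
  refine h.ne (eq_top_iff.2 fun l _ => ?_)
  have nK : L ≤ normalizer ((L ⊓ centralizer (om p E : Set Γ) : Subgroup Γ) : Set Γ) := fun l hl =>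
    inf_normalizer_le_normalizer_inf ⟨le_normalizer hl,
      Core.normalizer_le_normalizer_centralizer _ (n_om (h.norm hl))⟩
  obtain ⟨k, hk, hn⟩ := (h.syl.inf_of_normal_le inf_le_left nK).frattini (nK l.2)
  have := h.spe (⟨k, hk.1⟩ * l) ⟨g, h.GL' hg⟩ (h.le' hg)
    (pg_zpowers (h.pG.comap_of_injective _ L.subtype_injective) hg) H
    (h.le' (conj_mem hn ⟨hg, h.GL' hg, hc⟩).1)
  exact (mul_mem_cancel_left (h.cen ⟨k, hk.1⟩ hk.2)).1 this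

/-- The data of the torus element. -/
structure Tor (p : ℕ) (N E : Subgroup Γ) (y x τ : Γ) (a b : ℤ) : Prop where
  nx : x ∈ normalizer (E : Set Γ)
  nE : τ ∈ normalizer (E : Set Γ)
  nN : τ ∈ normalizer (N : Set Γ)
  wy : ∃ c : ℤ, (c : ZMod p) = a * a ∧ Ew τ c E y
  t2 : ∀ v ∈ om p E, ⁅y, v⁆ = 1 → Ew τ a ⊥ ⁅τ, v⁆
  t3 : ∀ v ∈ om p E, ⁅y, v⁆ = 1 → ⁅τ, v⁆ = 1 → ⁅x, v⁆ = 1
  t4 : ∀ v ∈ om p E, ⁅y, v⁆ = 1 → Ew τ a ⊥ v → ⁅y, ⁅x, v⁆⁆ = v⁻¹ ∧ Ew τ b ⊥ ⁅x, v⁆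
  rk : ∀ z ∈ om p E, (∀ g ∈ N, ⁅g, z⁆ = 1) → (∀ v ∈ om p E, ⁅y, v⁆ ∈ zpowers z) → N ≤ E ⊔ zpowers y

theorem Sp.tor (h : Sp p N E L M) (h5 : 5 ≤ p) (hy : y ∈ N) (hyE : y ∉ E) (cy : ∀ g ∈ N, ⁅g, y⁆ ∈ E)
    (hq : ∀ v ∈ om p E, ⁅y, ⁅y, v⁆⁆ = 1) (hab : ((a * b : ℤ) : ZMod p) = 1) (ha : (a : ZMod p) ≠ 1) :
    ∃ x : L, x ∉ M ∧ ∃ τ ∈ L, Tor p N E y x τ a b := by
  obtain ⟨V, _, _, _, q, π, sb, l⟩ := exists_lin_om (p := p) h.EL h.norm
  lift y to L using h.GL' hy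
  have k0 : ∀ g : L, π.toHomUnits g = 1 ↔ g.1 ∈ centralizer (om p E : Set Γ) := fun g => by
    rw [Units.ext_iff, MonoidHom.coe_toHomUnits, Units.val_one, l.one_iff]
    exact ⟨mem_centralizer_of_cm, fun H _ => cm_eq_one H⟩
  have kE : ∀ g : L, g.1 ∈ E → π.toHomUnits g = 1 := fun g hg =>
    (k0 g).2 (mem_centralizer_of_cm fun _ => cm_om hg)
  have eqE : ∀ g k : L, g.1 ∈ N → k.1 ∈ N → π.toHomUnits g = π.toHomUnits k → g.1⁻¹ * k ∈ E :=
    fun g k hg hk e => h.mem_E (mul_mem (inv_mem hg) hk) ((k0 (g⁻¹ * k)).1 (by simp [e]))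
  have kM : ∀ g, π.toHomUnits g ∈ M.map π.toHomUnits → g ∈ M := fun g ⟨x, hx, e⟩ => by
    simpa using M.mul_mem hx (h.cen (x⁻¹ * g) ((k0 _).1 (by simp [e])))
  have syl := (h.syl.subgroupOf h.GL').map π.toHomUnits
  rw [subgroupOf_self, ← MonoidHom.range_eq_map] at syl
  have spe : ∀ g ∈ π.toHomUnits.range, ∀ u ∈ M.map π.toHomUnits, IsPGroup p (zpowers u) → u ≠ 1 →
      g * u * g⁻¹ ∈ M.map π.toHomUnits → g ∈ M.map π.toHomUnits := by
    rintro _ ⟨g, rfl⟩ _ ⟨u, hu, rfl⟩ pu u1 H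
    obtain ⟨k, hk⟩ := IsPGroup.iff_orderOf.1 pu ⟨_, mem_zpowers _⟩
    obtain ⟨n, ⟨j, hj⟩, e⟩ := exists_pow_pElt_and_pow_eq (β := π.toHomUnits u)
      (isOfFinOrder_of_finite u) ((orderOf_coe _).trans hk)
    exact ⟨g, h.spe g (u ^ n) (pow_mem hu n) (pg_of_pow (hj ▸ pow_orderOf_eq_one _))
      (fun H => u1 (e.symm.trans ((map_pow π.toHomUnits u n).symm.trans (kE _ H)))) (kM _ (by simpa [e] using H)), rfl⟩
  obtain ⟨A, hA⟩ : ∃ A, A = π y - 1 := ⟨_, rfl⟩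
  have h2 : A * A = 0 := LinearMap.ext fun v => by
    obtain ⟨e, he, rfl⟩ := l.surj v
    rw [hA, End.mul_apply, l.cm y he]
    exact (l.cm_zero y (cm_mem_right (l.nX y.2) he)).2 (hq e he)
  have y1 : π.toHomUnits y ≠ 1 := fun e => hyE (h.mem_E hy ((k0 y).1 e))
  have cP : ∀ x ∈ (N.subgroupOf L).map π.toHomUnits, Commute x (π.toHomUnits y) := by
    rintro _ ⟨x, hx, rfl⟩
    rw [← commutatorElement_eq_one_iff_commute, ← map_commutatorElement]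
    exact kE _ (cy x hx)
  have hy' : Units.coeHom _ (π.toHomUnits y) = 1 + A := by simp [hA]
  obtain ⟨_, ⟨k, rfl⟩, hk, B, hB, hx, e, e'⟩ := exists_x (ρ := Units.coeHom _) Units.val_injective h5 h2
    hy' (X := π.toHomUnits.range) (M := M.map π.toHomUnits) ⟨y, rfl⟩ ⟨y, h.le' hy, rfl⟩ y1
    (fun H => h.ne (eq_top_iff.2 fun g _ => kM g (H ⟨g, rfl⟩))) spe
  push_cast at hab
  obtain ⟨_, ⟨t, rfl⟩, ht⟩ := exists_h h2 hB hy' hx e e' (X := π.toHomUnits.range) ⟨y, rfl⟩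
    ⟨k * y * k⁻¹, by simp⟩ hab
  replace ht : π t = _ := ht
  have hx' : π (k * y * k⁻¹) - 1 = B := sub_eq_of_eq_add' (by
    rw [← map_inv, ← map_mul, ← map_mul] at hx; exact hx)
  have zA : π t * A = (a : ZMod p) • A := by
    rw [ht, add_mul, add_mul, smul_mul_assoc, smul_mul_assoc, e, mul_assoc, h2]; simp [sub_smul]
  have Az : A * π t = (b : ZMod p) • A := by
    rw [ht, mul_add, mul_add, mul_smul_comm, mul_smul_comm, ← mul_assoc, ← mul_assoc, e, h2]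
    simp [sub_smul]
  have zB : π t * B = (b : ZMod p) • B := by
    rw [ht, add_mul, add_mul, smul_mul_assoc, smul_mul_assoc, e', mul_assoc, hB]; simp [sub_smul]
  have z1 : ∀ v, A v = 0 → π t v - v = (1 - a : ZMod p) • A (B v) := fun v hv => by simp [ht, hv]
  have tn := tor_norm syl cP hA h2 ⟨t, rfl⟩ hab zA Az fun v hv =>
    (z1 v hv) ▸ Submodule.smul_mem _ _ ⟨_, rfl⟩
  obtain ⟨c, hc, hn⟩ := ((h.syl.subgroupOf h.GL').of_le
    (K := ((N.subgroupOf L).map π.toHomUnits).comap π.toHomUnits) (le_comap_map _ _)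
    (subgroupOf_self L ▸ le_top)).frattini (g := t) (le_normalizer_comap _ tn)
  obtain ⟨u, hu, eu⟩ := hc
  have hn' := (mem_norm_subgroupOf h.GL').1 (mul_mem (inv_mem (le_normalizer hu)) hn)
  have et : π (u⁻¹ * (c * t)) = π t := congrArg Units.val (show π.toHomUnits _ = π.toHomUnits t by simp [eu])
  rw [← et] at zA Az zB z1
  generalize u⁻¹ * (c * t) = τ at hn' zA Az zB z1
  have a1 : (1 - a : ZMod p) ≠ 0 := sub_ne_zero.2 ha.symm
  have A0 : ∀ v ∈ om p E, ⁅y.1, v⁆ = 1 → A (q v) = 0 := fun v hv H => hA ▸ (l.cm_zero y hv).2 H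
  have cx := fun v hv => cm_mem_right (x := v) (l.nX (k * y * k⁻¹).2) hv
  refine ⟨k * y * k⁻¹, fun H => hk ⟨k, h.spe k y (h.le' hy)
    (pg_zpowers (h.pG.comap_of_injective _ L.subtype_injective) hy) hyE H, rfl⟩, τ, τ.2,
    h.norm (k * y * k⁻¹).2, h.norm τ.2, hn', ⟨(a * a : ZMod p).val, by simp, ?_⟩, fun v hv H => ?_,
    fun v hv H H' => ?_, fun v hv H H' => ?_, fun z hz H H' g hg => ?_⟩
  · refine eqE (y ^ ((a * a : ZMod p).val : ℤ)) (τ * y * τ⁻¹) (zpow_mem hy _) (conj_mem hn' hy) ?_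
    rw [map_mul, map_mul, map_inv, eq_mul_inv_iff_mul_eq, zpow_natCast, map_pow, Units.ext_iff,
      Units.val_mul, Units.val_mul, show (↑(π.toHomUnits y ^ _) : End (ZMod p) V) = _ from
        pow_quad (p := p) h2 hy' _, show (π.toHomUnits y : End (ZMod p) V) = _ from hy']
    simp [mul_add, add_mul, zA, Az, smul_smul, mul_assoc, hab]
  · rw [← l.ew_iff (cm_mem_right (l.nX τ.2) hv), ← l.cm τ hv, LinearMap.sub_apply, End.one_apply,
      z1 _ (A0 v hv H), map_smul, ← End.mul_apply _ A, zA, smul_comm]; rfl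
  · have := (l.cm_zero τ hv).2 H'
    rw [LinearMap.sub_apply, End.one_apply, z1 _ (A0 v hv H), smul_eq_zero_iff_right a1] at this
    refine (l.cm_zero (k * y * k⁻¹) hv).1 ?_
    rw [hx']
    simpa [this] using LinearMap.congr_fun e' (q v)
  · have := z1 _ (A0 v hv H)
    rw [(l.ew_iff hv).2 H'] at this
    have e1 : A (B (q v)) = -q v := smul_right_injective V a1 (this.symm.trans (by simp [sub_smul]))
    refine ⟨?_, (l.ew_iff (cx v hv)).1 (by rw [← l.cm _ hv, hx', ← End.mul_apply, zB]; rfl)⟩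
    rw [hA, ← hx', l.cm _ hv, l.cm _ (cx v hv), ← l.inv hv,
      l.eq_iff (cm_mem_right (l.nX y.2) (cx v hv)) (inv_mem hv), mem_bot, inv_mul_eq_one] at e1
    exact e1
  · obtain ⟨i, hi⟩ := mem_zpowers_iff.1 (rank_one syl (map_mono h.le') spe ⟨y, hy, rfl⟩ y1 cP hA h2 ⟨k, rfl⟩ hk
      hB hx e e' (z := q z) (fun v => by
        obtain ⟨w, hw, rfl⟩ := l.surj v
        obtain ⟨i, hi⟩ := mem_zpowers_iff.1 (H' w hw)
        exact ⟨i, by rw [hA, l.cm y hw, ← hi, l.zpow z hz]⟩) (by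
        rintro _ ⟨u, hu, rfl⟩
        exact sub_eq_zero.1 ((l.cm_zero u hz).2 (H u hu))) ⟨⟨g, h.GL' hg⟩, hg, rfl⟩)
    have := eqE (y ^ i) ⟨g, h.GL' hg⟩ (zpow_mem hy i) hg (by rw [map_zpow, hi])
    simpa using (E ⊔ zpowers y.1).mul_mem (mem_sup_right (zpow_mem_zpowers y.1 i)) (mem_sup_left this)

end CfsgLib.Fus5
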