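import Mathlib
import Cfsg.Agent.Lib.Fus5.TorG
import Cfsg.Agent.Lib.Fus5.LemA

/-!
Essential subgroups properly contained in `γ₁`: the case of positive degree of commutativity.
-/

set_option autoImplicit false
set_option linter.unusedSectionVars false

namespace CfsgLib.Fus5

open Subgroup Module Cfsg CfsgLib.LAE CfsgLib.Fusion CfsgLib.MaxCl CfsgLib.Fus2 CfsgLib.Fus4
open scoped commutatorElement

universe u

theorem det_eq_pow {K V : Type*} [Field K] [AddCommGroup V] [Module K V] [Module.Finite K V]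
    {T : End K V} {c : K} {W : Submodule K V} (h1 : ∀ v ∈ W, T v = c • v) (h2 : ∀ v, T v - v ∈ W) :
    LinearMap.det T = c ^ finrank K W := by
  have h : W ≤ W.comap T := fun v hv => show T v ∈ W from (h1 v hv).symm ▸ W.smul_mem c hv
  rw [T.det_eq_det_mul_det W h, show T.restrict h = c • LinearMap.id from
    LinearMap.ext fun v => Subtype.ext (h1 v v.2), show W.mapQ W T h = LinearMap.id from
    LinearMap.ext fun v => Submodule.Quotient.induction_on W v fun v =>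
      (Submodule.Quotient.eq W).2 (h2 v)]
  simp

variable {Γ : Type u} [Group Γ] [Finite Γ] {p n j i k : ℕ} [hp : Fact p.Prime]
  {S N E L H X Y : Subgroup Γ} {y x τ σ g v z : Γ} {a b c : ℤ}

/-- The preimage of a submodule. -/
def Lin2.pre {V : Type u} [AddCommGroup V] [Module (ZMod p) V] {q : Γ → V}
    {π : L →* End (ZMod p) V} {sb : Subgroup Γ → Submodule (ZMod p) V} (h : Lin2 p X Y L q π sb)
    (U : Submodule (ZMod p) V) : Subgroup Γ where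
  carrier := {v | v ∈ X ∧ q v ∈ U}
  one_mem' := ⟨one_mem _, (h.zero 1 (one_mem _)).2 (one_mem _) ▸ zero_mem _⟩
  mul_mem' := fun ha hb => ⟨mul_mem ha.1 hb.1, h.add _ ha.1 _ hb.1 ▸ add_mem ha.2 hb.2⟩
  inv_mem' := fun ha => ⟨inv_mem ha.1, h.inv ha.1 ▸ neg_mem ha.2⟩

theorem n_closure {s : Set Γ} (h : ∀ x ∈ s, g * x * g⁻¹ ∈ s) :
    g ∈ normalizer (closure s : Set Γ) :=
  mem_normalizer_fintype fun _ hx => (closure_le ((closure s).comap (MulAut.conj g).toMonoidHom)).2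
    (fun x hx => subset_closure (h x hx)) hx

theorem ew_congr (e : σ * g * σ⁻¹ = τ * g * τ⁻¹) (w : Ew τ c X g) : Ew σ c X g := by
  rwa [Ew, e]

theorem cm_congr (e : σ * g * σ⁻¹ = τ * g * τ⁻¹) : ⁅σ, g⁆ = ⁅τ, g⁆ := by
  rw [commutatorElement_def, e, commutatorElement_def]

theorem le_of_gp_le (m : MC S p n) (h4 : 4 ≤ n) (h : gp S i ≤ gp S k) (hi : i + 2 ≤ n) : k ≤ i :=
  by_contra fun H => not_le_of_relIndex_prime (idx_gp m h4 hi) (h.trans (gp_anti S (by omega)))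

/-- The local data at an essential subgroup properly contained in `γ₁`. -/
structure Cg (p n j : ℕ) (S N E L H : Subgroup Γ) (y x τ : Γ) (a b : ℤ) : Prop
    extends Tor p N E y x τ a b where
  mc : MC S p n
  h5 : 5 ≤ p
  md : Mod p N E L
  eN : ∀ g ∈ S, g ∈ normalizer (E : Set Γ) → g ∈ N
  NK : N ≤ kc S 1
  jn : j + 4 ≤ n
  jE : gp S (j + 2) ≤ E
  yj : y ∈ gp S (j + 1)
  yE : y ∉ E
  xL : x ∈ L
  xZ : x ∉ centralizer (gp S (n - 2) : Set Γ)
  τL : τ ∈ L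
  prim : IsPrimitiveRoot (a : ZMod p) (p - 1)
  ab : (a : ZMod p) * b = 1
  mH : Mod p S (kc S 1) H
  ext : ∀ δ ∈ L, δ ∈ normalizer (N : Set Γ) → ∃ σ ∈ H, ∀ g ∈ N, σ * g * σ⁻¹ = δ * g * δ⁻¹

namespace Cg

variable (h : Cg p n j S N E L H y x τ a b)
include h

theorem h4 : 4 ≤ n := (Nat.le_add_left 4 j).trans h.jn

theorem EK : E ≤ kc S 1 := h.md.le.trans h.NK

theorem yN : y ∈ N := h.eN y (gp_le S _ h.yj)
  (mem_normalizer_of_cm fun _ hx => h.jE (cm_gp h.yj (h.EK hx).1))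

theorem mem_E (hg : g ∈ S) (hc : g ∈ centralizer (E : Set Γ)) : g ∈ E :=
  h.md.cent g (h.md.GL' (h.eN g hg (le_centralizer_normalizer le_rfl hc))) hc

theorem na : ¬ ⁅kc S 1, kc S 1⁆ ≤ ⊥ := fun H => h.yE (h.mem_E (gp_le S _ h.yj)
  (mem_centralizer_of_cm fun e he => commutator_le.1 H y h.yj.1 e (h.EK he)))

theorem pow_one (hi : n ≤ i + p) (i1 : 1 ≤ i) (hv : v ∈ gp S i) : v ^ p = 1 :=
  (gp_bot h.mc h.h4 (by omega)).le (pow_gp h.mc h.h4 i1 hv)

theorem cZ (hg : g ∈ S) (hz : z ∈ gp S (n - 2)) : ⁅g, z⁆ = 1 :=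
  cm_eq_one' ((center_eq h.mc h.h4).ge hz).2 hg

theorem Zom : gp S (n - 2) ≤ om p E := fun _ hz =>
  have := h.jn
  have := h.h5
  ⟨h.jE (gp_anti S (by omega) hz), centralizer_le (h.EK.trans (kc_le S 1))
    ((center_eq h.mc h.h4).ge hz).2, h.pow_one (by omega) (by omega) hz⟩

theorem omN : om p E ≤ N := (om_le p E).trans h.md.le

theorem a1 : (a : ZMod p) ≠ 1 := h.prim.ne_one (by have := h.h5; omega)

theorem prZ : Pr p ⊥ (gp S (n - 2)) := by
  have := h.jn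
  rw [← gp_bot h.mc h.h4 (i := n - 2 + 1) (by omega)]
  exact pr_w h.mc h.h4 (by omega)

theorem exists_cm : ∃ z ∈ gp S (n - 2), ⁅τ, z⁆ ≠ 1 := by
  by_contra! H
  exact h.xZ (mem_centralizer_of_cm fun z hz => h.t3 z (h.Zom hz) (h.cZ h.yj.1.1 hz) (H z hz))

theorem wZ (hσ : σ ∈ normalizer (gp S (n - 2) : Set Γ)) (e : ∀ g ∈ N, σ * g * σ⁻¹ = τ * g * τ⁻¹) :
    Wt σ a ⊥ (gp S (n - 2)) := by
  obtain ⟨z, hz, H⟩ := h.exists_cm
  have := h.t2 z (h.Zom hz) (h.cZ h.yj.1.1 hz)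
  rw [← cm_congr (e z (h.omN (h.Zom hz)))] at H this
  have hz' := cm_mem_right hσ hz
  exact (ew_congr (e _ (h.omN (h.Zom hz'))) this).wt_prime h.prZ.pg bot_le h.prZ.idx hz' H
    (norm_bot ⊤ trivial)

theorem yxz (hσ : σ ∈ normalizer (gp S (n - 2) : Set Γ)) (e : ∀ g ∈ N, σ * g * σ⁻¹ = τ * g * τ⁻¹)
    (hz : z ∈ gp S (n - 2)) : ⁅y, ⁅x, z⁆⁆ = z⁻¹ ∧ Ew τ b ⊥ ⁅x, z⁆ :=
  h.t4 z (h.Zom hz) (h.cZ h.yj.1.1 hz) (ew_congr (e z (h.omN (h.Zom hz))).symm (h.wZ hσ e z hz))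

theorem wwZ (hσ : σ ∈ normalizer (S : Set Γ)) (e : ∀ g ∈ N, σ * g * σ⁻¹ = τ * g * τ⁻¹) :
    ww p S (n - 2) σ = a :=
  (pr_w h.mc h.h4 (by have := h.jn; omega)).eq ((h.wZ (n_gp hσ _) e).mono bot_le le_rfl)

theorem omK : om p (kc S 1) ≤ om p E := fun _ hv =>
  have := centralizer_le h.EK hv.2.1
  ⟨h.mem_E hv.1.1 this, this, hv.2.2⟩

theorem Z2om (hC : kc S (n - 3) = kc S 1) : gp S (n - 3) ≤ om p (kc S 1) := fun _ hv =>
  have := h.jn
  have := h.h5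
  ⟨hv.1, le_centralizer_iff.1 ((hC.ge.trans (kc_last h.mc h.h4).le).trans inf_le_right) hv,
    h.pow_one (by omega) (by omega) hv⟩

theorem five_a (hC : kc S (n - 3) = kc S 1) (hσ : σ ∈ normalizer (S : Set Γ))
    (e : ∀ g ∈ N, σ * g * σ⁻¹ = τ * g * τ⁻¹) : False := by
  have m := h.mc
  have h4 := h.h4
  have h5 := h.h5
  obtain ⟨c, hc⟩ := exists_c m h4 (t := n - 2) (by omega) (Or.inr hC)
    (gp_bot m h4 (i := n - 2 + 1) (by omega) ▸ h.na)
  have w2 := h.wwZ hσ e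
  have w3 := ww_succ m h4 hσ (i := n - 3) (by omega) (Or.inr hC)
  rw [show n - 3 + 1 = n - 2 by omega, w2] at w3
  have w4 : ww p S (n - 3) σ = 1 := by
    refine ((pr_w m h4 (by omega)).one_iff (n_gp hσ _) (n_gp hσ _)).2 fun v hv => by_contra fun H => ?_
    have hv' := cm_mem_right (n_gp hσ _) hv
    have l := fun v hv => e v (h.omN (h.omK (h.Z2om hC hv)))
    have := h.t2 v (h.omK (h.Z2om hC hv)) (cm_om h.yj.1 (h.Z2om hC hv))
    rw [← cm_congr (l v hv)] at this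
    rw [ww_ew m h4 hσ hv' H ((ew_congr (l _ hv') this).mono bot_le), left_eq_mul₀
      (h.prim.ne_zero (by omega))] at w3
    exact h.a1 (by rw [← w2, hc σ hσ _ le_rfl, w3, one_pow])
  rw [w4, one_mul] at w3
  obtain ⟨z, hz, z1⟩ := exists_not_mem h.prZ.idx
  obtain ⟨t1, t2⟩ := h.yxz (n_gp hσ _) e hz
  have hv := cm_mem_right (n_om h.nx) (h.Zom hz)
  have y1 : ⁅y, ⁅x, z⁆⁆ ≠ 1 := fun H => z1 (inv_eq_one.1 (t1.symm.trans H))
  obtain ⟨i, -, i1, i2, i3⟩ := exists_pos (gp_zero S ▸ h.EK hv.1)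
    fun H => y1 (cm_om h.yj.1 (h.Z2om hC H))
  have w5 := ww_add m h4 hσ (i := i) (k := n - 4 - i + 1) (by omega) (Or.inr hC)
  rw [show i + (n - 4 - i + 1) = n - 3 by omega, w4, ww_ew m h4 hσ i2 i3
    ((ew_congr (e _ (h.omN hv)) t2).mono bot_le), ← w3, pow_succ', ← mul_assoc, mul_comm _ (a : ZMod p),
    h.ab, one_mul, eq_comm, h.prim.pow_eq_one_iff_dvd] at w5
  rcases (n - 4 - i).eq_zero_or_pos with H | H
  · exact y1 ((gp_bot m h4 (by omega)).le (commutator_le.1 (dc m h4 (Or.inr hC)) y h.yj _ i2))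
  · have := Nat.le_of_dvd H w5
    exact i3 (gp_anti S (by omega) (mem_gp_of_pow m h4 (by omega) i2.1 hv.2.2))

theorem card_om {W : Subgroup Γ} (hW : ∀ v ∈ W, v ∈ om p (kc S 1) ∧ Ew τ a ⊥ v) :
    Nat.card (om p (kc S 1)) * Nat.card W ≤ Nat.card (om p E) := by
  have k : ∀ u ∈ om p (kc S 1), ∀ v ∈ W, ⁅y, u * ⁅x, v⁆⁆ = v⁻¹ := fun u hu v hv => by
    have e1 := (h.t4 v (h.omK (hW v hv).1) (cm_om h.yj.1 (hW v hv).1) (hW v hv).2).1
    rw [cm_mul_right' (e1 ▸ (commute_of_mem hu.2.1 (hW v hv).1.1).inv_right), cm_om h.yj.1 hu, one_mul, e1]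
  rw [← Nat.card_prod]
  refine Nat.card_le_card_of_injective (fun t => ⟨t.1 * ⁅x, t.2.1⁆, mul_mem (h.omK t.1.2)
    (cm_mem_right (n_om h.nx) (h.omK (hW _ t.2.2).1))⟩) fun s t e => ?_
  have e : s.1.1 * ⁅x, s.2.1⁆ = t.1.1 * ⁅x, t.2.1⁆ := congrArg Subtype.val e
  have e2 : s.2 = t.2 := Subtype.ext (inv_injective (by rw [← k _ s.1.2 _ s.2.2, ← k _ t.1.2 _ t.2.2, e]))
  exact Prod.ext (Subtype.ext (mul_right_cancel (e2 ▸ e :))) e2

theorem card_om_lt : Nat.card (om p E) < p ^ (n - 1) ∧ Nat.card (om p E) ≤ p ^ (p - 1) := by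
  have h1 : Nat.card (om p E) < p ^ (n - 1) := (card_lt_of_lt' ((om_le p E).trans_lt (h.EK.lt_of_ne
    fun e => h.yE (e ▸ h.yj.1)))).trans_eq (gp_zero S ▸ card_gp h.mc h.h4 0)
  refine ⟨h1, ?_⟩
  by_cases H : p + 2 ≤ n
  · exact (card_le_of_le' (X := om p E) fun v hv => mem_gp_of_pow h.mc h.h4 H (h.EK hv.1) hv.2.2).trans_eq
      (by rw [card_gp h.mc h.h4]; congr 1; omega)
  · obtain ⟨r, hr⟩ := exists_card_eq (h.md.pX (om_le p E))
    rw [hr, Nat.pow_lt_pow_iff_right hp.out.one_lt] at h1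
    exact hr ▸ Nat.pow_le_pow_right hp.out.pos (by omega)

theorem five (hC : kc S (n - 3) = kc S 1) : False := by
  have m := h.mc
  have h4 := h.h4
  have h5 := h.h5
  have pp := hp.out.one_lt
  obtain ⟨σ, hσ, e⟩ := h.ext τ h.τL h.nN
  lift σ to H using hσ
  refine h.five_a hC ?_ e
  obtain ⟨c, hc⟩ := exists_c m h4 (t := n - 2) (by omega) (Or.inr hC)
    (gp_bot m h4 (i := n - 2 + 1) (by omega) ▸ h.na)
  have hm : Hm p n S H := ⟨h.mH, m, h4, h.na, fun g hg e i hi => by rw [hc g hg i (by omega), e, one_pow]⟩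
  have nV : H ≤ normalizer (om p (kc S 1) : Set Γ) := fun _ hg => n_om (h.mH.norm hg)
  obtain ⟨k, -, ek⟩ := exists_eq_gp m h4 (h.mH.GL'.trans nV) (om_le p _)
  have k3 := le_of_gp_le m h4 ((h.Z2om hC).trans ek.le) (by omega)
  obtain ⟨V, _, _, _, q, π, sb, l⟩ := exists_lin_om (p := p) h.mH.EL h.mH.norm
  obtain ⟨U, hU⟩ : ∃ U : Submodule (ZMod p) V, ∀ v, v ∈ U ↔ π σ v = (a : ZMod p) • v :=
    ⟨LinearMap.ker (π σ - (a : ZMod p) • 1), fun v => by simp [sub_eq_zero]⟩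
  have e' := fun v hv => e v (h.omN (h.omK hv))
  have hW : ∀ v ∈ l.pre U, v ∈ om p (kc S 1) ∧ Ew τ a ⊥ v := fun v hv =>
    ⟨hv.1, ew_congr (e' v hv.1).symm ((l.ew_iff hv.1).1 ((hU _).1 hv.2))⟩
  have cW : ∀ v ∈ om p (kc S 1), ⁅τ, v⁆ ∈ l.pre U := fun v hv => by
    have := h.t2 v (h.omK hv) (cm_om h.yj.1 hv)
    rw [← cm_congr (e' v hv)] at this ⊢
    have hv' := cm_mem_right (nV σ.2) hv
    exact ⟨hv', (hU _).2 ((l.ew_iff hv').2 (ew_congr (e' _ hv') this))⟩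
  have dt := det_eq_pow (T := π σ) (fun v => (hU v).1) fun v => by
    obtain ⟨w, hw, rfl⟩ := l.surj v
    exact (show π σ (q w) - q w = _ from l.cm σ hw) ▸ cm_congr (e' w hw) ▸ (cW w hw).2
  have cU : Nat.card (l.pre U) = p ^ finrank (ZMod p) U := by
    rw [← l.card (Z := l.pre U) rfl fun _ h => h.1, show sb (l.pre U) = U from le_antisymm (fun v hv => by
      obtain ⟨w, -, h1, rfl⟩ := (l.mem _ _).1 hv
      exact h1.2) fun v hv => by
        obtain ⟨w, hw, rfl⟩ := l.surj v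
        exact l.mem_of hw ⟨hw, hv⟩, natCard_eq_pow_finrank (K := ZMod p), Nat.card_zmod]
  generalize finrank (ZMod p) U = β at dt cU
  have cV := ek ▸ card_gp m h4 k
  have c1 := h.card_om hW
  rw [cU, cV, ← pow_add] at c1
  have c2 := (Nat.pow_lt_pow_iff_right pp).1 (c1.trans_lt h.card_om_lt.1)
  replace c1 := (Nat.pow_le_pow_iff_right pp).1 (c1.trans h.card_om_lt.2)
  have b0 : β ≠ 0 := by
    rintro rfl
    obtain ⟨z, hz, z1⟩ := h.exists_cm
    exact z1 ((card_eq_one.1 cU).le (cW z (h.Z2om hC (gp_anti S (by omega) hz))))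
  by_cases H1 : n - 1 - k ≤ β
  · have eU : l.pre U = om p (kc S 1) := eq_of_le_of_card_ge (fun _ h => h.1)
      (by rw [cU, cV]; exact Nat.pow_le_pow_right pp.le H1)
    have nC := fun g (hg : g ∈ H) => Core.normalizer_le_normalizer_centralizer _ (nV hg)
    refine le_normalizer (hm.lemA (K := H ⊓ cs S (centralizer (om p (kc S 1)))) (fun s hs =>
      ⟨h.mH.GL' hs, nC s (h.mH.GL' hs), fun t ht => mem_centralizer_of_cm fun v =>
        cm_om (lc_le_kc S 1 (commutator_mem_commutator hs ht))⟩) inf_le_left (fun g hg hn => ?_)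
      ⟨σ.2, nC σ σ.2, fun t ht => mem_centralizer_of_cm ((l.one_iff (g := ⁅σ, ⟨t, h.mH.GL' ht⟩⁆)).1 ?_)⟩)
    · exact ((pr_a m h4).one_iff (n_kc hn 1) hn).2 fun t ht => hC.le ((kc_last m h4).ge
        ⟨cm_mem_right hn ht, centralizer_le (h.Z2om hC) (hg.2.2 t ht)⟩)
    · have : π σ = (a : ZMod p) • 1 := LinearMap.ext fun v => by
        obtain ⟨w, hw, rfl⟩ := l.surj v
        exact (hU _).1 (eU.ge hw).2
      rw [commutatorElement_def, mul_assoc, ← mul_inv_rev, map_mul, map_mul, this, smul_mul_assoc,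
        one_mul, ← mul_one (π _), ← mul_smul_comm, ← this, ← map_mul, ← map_mul, mul_inv_cancel, map_one]
  have ha := fun g => hm.pow_eq_one (g := g) (LinearMap.det.comp π) h.prim dt
  refine (?_ : H ≤ normalizer (S : Set Γ)) σ.2
  by_cases H2 : β = 1
  · exact hm.normal (by simpa [H2] using ha)
  have b1 := gp_bot m h4 (i := k + (n - 1 - k)) (by omega)
  by_cases H3 : 2 * (n - 1 - k) + 1 ≤ p
  · exact hm.normal_of_sec (ek ▸ nV) (b1 ▸ norm_bot H) (b1 ▸ ek ▸ commutator_le.2 fun _ a _ => cm_om a)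
      (b1 ▸ ek ▸ fun _ h => h.2.2) (by omega) (by omega) H3 b0 (by omega) ha
  let s := {g | g ∈ kc S 1 ∧ g ^ p = 1 ∧ ∀ u ∈ kc S 1, ⁅g, u⁆ ∈ om p (kc S 1)}
  have nX : H ≤ normalizer (closure s : Set Γ) := fun g hg => n_closure fun x hx =>
    ⟨conj_mem (h.mH.norm hg) hx.1, by rw [conj_pow, hx.2.1, mul_one, mul_inv_cancel],
      (conj_mem_cs (nV hg) (h.mH.norm hg) ⟨nV (h.mH.EL hx.1), hx.2.2⟩).2⟩
  have sK : closure s ≤ kc S 1 := (closure_le _).2 fun _ h => h.1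
  have sC : ⁅closure s, kc S 1⁆ ≤ om p (kc S 1) := commutator_le.2 fun x hx =>
    ((closure_le (cs (kc S 1) (om p (kc S 1)))).2 (fun _ hx => ⟨nV (h.mH.EL hx.1), hx.2.2⟩) hx).2
  have sp := fun x => pow_eq_one_of_class_two (s := s) (x := x) (by omega) (fun _ h => h.2.1)
    (((commutator_mono le_rfl sK).trans sC).trans fun _ hv => centralizer_le sK hv.2.1)
  obtain ⟨j, -, ej⟩ := exists_eq_gp m h4 (h.mH.GL'.trans nX) sK
  have j1 := le_of_gp_le m h4 (i := k - 2) (le_trans (fun g hg => Subgroup.subset_closure (k := s)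
    ⟨hg.1, h.pow_one (by omega) (by omega) hg, fun u hu => ek.ge (gp_anti S (by omega)
      (commutator_le.1 (dc m h4 (b := 0) (Or.inr hC)) g hg u (gp_zero S ▸ hu)))⟩) ej.le) (by omega)
  have j2 : n ≤ j + p + 1 := by_contra fun H => by
    have := le_of_gp_le m h4 (fun g hg => mem_gp_of_pow m h4 (by omega) hg.1 (sp g (ej.ge hg))) (by omega)
    omega
  obtain ⟨d, rfl⟩ : ∃ d, k = j + d := ⟨k - j, by omega⟩
  have := hp.out.eq_two_or_odd
  exact hm.normal_of_sec (ej ▸ nX) (ek ▸ nV) (ek ▸ ej ▸ (commutator_comm _ _).le.trans sC)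
    (fun x hx => sp x (ej.ge hx) ▸ one_mem _) (by omega) (by omega) (by omega) b0 (by omega) ha

end Cg

end CfsgLib.Fus5
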