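import Mathlib
import Cfsg.Agent.Lib.Fus5.Wz
import Cfsg.Agent.Lib.Fus2.PT
import Cfsg.Agent.Lib.Fus2.Vtx

/-!
Essential subgroups which are not contained in `γ₁`.
-/

set_option autoImplicit false
set_option linter.unusedSectionVars false

namespace CfsgLib.Fus5

open Subgroup Cfsg CfsgLib.LAE CfsgLib.Fusion CfsgLib.MaxCl CfsgLib.Fus2 CfsgLib.Fus4
open Cfsg.FusionSystem hiding inv_mem
open scoped commutatorElement

variable {Γ : Type*} [Group Γ] [Finite Γ] {p n i k a : ℕ} [hp : Fact p.Prime]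
  {S E L R P T X : Subgroup Γ} {F : FusionSystem S} {e g s u v : Γ} {f : Γ → Γ}

theorem ext_T (hl : LR p F) (hTS : T ≤ S) (hT : ∀ f, Mor F S f → img T f = T) {Φ : Subgroup Γ → Prop}
    (h0 : ∀ P, Φ P → P ≤ T) (h1 : ∀ P g, Φ P → Mor F T g → img T g = T → Φ (img P g))
    (h2 : ∀ R P, F.IsEssential p R → P ≤ R → Φ P → R = T) (hf : Mor F P f) (hP : Φ P) :
    ∃ g, Mor F T g ∧ img T g = T ∧ ∀ x ∈ P, g x = f x := by
  refine alperin_induction hl.pS hl.sat (Φ := fun P f => ∀ Q ≤ P, Φ Q →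
    ∃ g, Mor F T g ∧ img T g = T ∧ ∀ x ∈ Q, g x = f x) (fun R hR α hα P hPR Q hQ H => ?_)
    (fun P f g _ h e Q hQ H => ?_) (fun P P' f g hf hg h h' hm Q hQ H => ?_) hf P le_rfl hP
  · rcases hR with rfl | hR
    · have := (CfsgLib.Fusion.mem_autGroup le_rfl).1 hα
      exact ⟨_, this.mono hTS, hT _ this, fun _ _ => rfl⟩
    · obtain rfl := h2 R Q hR (hQ.trans hPR) H
      exact ⟨_, (CfsgLib.Fusion.mem_autGroup hTS).1 hα, img_extAut α, fun _ _ => rfl⟩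
  · obtain ⟨k, h3, h4, e'⟩ := h Q hQ H
    exact ⟨k, h3, h4, fun x hx => (e' x hx).trans (e x (hQ hx))⟩
  · obtain ⟨k, h3, h4, e⟩ := h Q hQ H
    obtain ⟨k', h5, h6, e'⟩ := h' _ (img_le_iff.2 fun x hx => e x hx ▸ hm x (hQ hx)) (h1 Q k H h3 h4)
    exact ⟨k' ∘ k, h3.comp h5 fun x hx => h4 ▸ mem_img_of_mem k hx, by rw [← h3.img_img, h4, h6],
      fun x hx => by rw [Function.comp_apply, e' _ (mem_img_of_mem k hx), e x hx]; rfl⟩

theorem cm_pow_self (x : Γ) (k : ℕ) : ⁅x ^ k, x⁆ = 1 :=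
  commutatorElement_eq_one_iff_commute.2 ((Commute.refl x).pow_left k)

theorem cm_sup_self (hX : T ⊔ zpowers e ≤ normalizer (X : Set Γ))
    (h : ∀ t ∈ T, ∀ x ∈ T ⊔ zpowers e, ⁅t, x⁆ ∈ X) : ⁅T ⊔ zpowers e, T ⊔ zpowers e⁆ ≤ X :=
  have l := le_sup_left.trans hX
  have l' := hX (mem_sup_right (mem_zpowers e))
  commutator_le.2 fun x hx y hy => cm_swap (cm_sup_zpowers l l' (fun t ht => cm_swap (h t ht y hy))
    (cm_swap (cm_sup_zpowers l l' (fun t ht => cm_swap (h t ht e (mem_sup_right (mem_zpowers e))))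
      (by simp) y hy)) x hx)

variable (m : MC S p n) (h4 : 4 ≤ n)
include m h4

theorem mem_gp_of_cm (he : e ∈ S) (he' : e ∉ kc S 1) (hi : i + 3 ≤ n ∨ e ∉ kc S (n - 3) ∧ i + 2 ≤ n)
    (hu : u ∈ kc S 1) (h : ⁅u, e⁆ ∈ gp S (i + 1)) : u ∈ gp S i := by
  by_contra H
  obtain ⟨j, -, h1, h2, h3⟩ := exists_pos (gp_zero S ▸ hu) H
  exact cm_not m h4 he he' (hi.imp (by omega) (·.1)) (by omega) h2 h3 (gp_anti S (by omega) h)

theorem idx_inf (hX : X ≤ S) (h : ¬ X ≤ kc S 1) : (X ⊓ kc S 1).relIndex X = p := by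
  rw [inf_relIndex_left]
  exact relIndex_eq_prime (IsPGroup.to_le m.pgroup hX) h ((relIndex_le_of_le_right hX
    (relIndex_pos' _ _).ne').trans_lt (by rw [idx_kc m h4]; nlinarith [hp.out.two_le]))

theorem eq_sup (hX : X ≤ S) (he : e ∈ X) (he' : e ∉ kc S 1) (h : X ⊓ kc S 1 = gp S k) :
    gp S k ⊔ zpowers e = X :=
  h ▸ sup_zpowers_eq inf_le_left (idx_inf m h4 hX fun H => he' (H he)) he fun H => he' H.2

theorem card_of_inf (hX : X ≤ S) (h' : ¬ X ≤ kc S 1) (h : X ⊓ kc S 1 = gp S k) :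
    Nat.card X = p ^ (n - 1 - k + 1) :=
  (card_eq_of_relIndex inf_le_left (h ▸ card_gp m h4 k) (idx_inf m h4 hX h')).trans (pow_succ _ _).symm

theorem exists_eq' (he : e ∈ S) (he' : e ∉ kc S 1) (hX : e ∈ normalizer (X : Set Γ))
    (hK : X ≤ kc S 1) (h : gp S (n - 3) ≤ X) : ∃ k, k + 3 ≤ n ∧ X = gp S k := by
  classical
  have H : ∃ k, gp S k ≤ X := ⟨n - 3, h⟩
  have h0 := Nat.find_min' H h
  refine ⟨Nat.find H, by omega, le_antisymm (fun u hu => by_contra fun H' => ?_) (Nat.find_spec H)⟩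
  obtain ⟨i, -, h1, h2, h3⟩ := exists_pos (gp_zero S ▸ hK hu) H'
  refine Nat.find_min H h1 ?_
  clear h1 H'
  induction h5 : n - i generalizing i u with
  | zero => have := pos_le m h4 h2 h3; omega
  | succ d ih =>
    by_cases H : i + 4 ≤ n
    · rw [← sup_gp m h4 h2 h3]
      exact sup_le (ih _ (cm_mem_left hX hu) _ (cm_gp h2 he) (cm_not m h4 he he' (Or.inl H) (by omega)
        h2 h3) (by omega)) (zpowers_le.2 hu)
    · exact (gp_anti S (by omega)).trans h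

theorem norm_inf (he : e ∈ E) (he' : e ∉ kc S 1) (hE : E ≤ S) (h : E ⊓ kc S 1 = gp S (k + 1))
    (hk : k + 3 ≤ n ∨ e ∉ kc S (n - 3) ∧ k + 2 ≤ n) : normalizerIn S E ⊓ kc S 1 = gp S k :=
  le_antisymm (fun _ hg => mem_gp_of_cm m h4 (hE he) he' hk hg.2 (h.le ⟨cm_mem_right hg.1.2 he,
    cm_mem_left (le_normalizer_of_prime m.pgroup (kc_le S 1) (idx_kc m h4) (hE he)) hg.2⟩))
    (le_inf (le_inf (gp_le S k) (le_normalizer_of_cm fun _ hg _ hx => (h.ge (cm_gp hg (hE hx))).1))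
      (gp_le_kc S k))

theorem exists_un_mem (h1 : ¬ R ≤ kc S 1) (h2 : ¬ R ≤ kc S (n - 3)) (hR : R ≤ S) : ∃ s ∈ R, Un S n s := by
  obtain ⟨a, ha, ha'⟩ := SetLike.not_le_iff_exists.1 h1
  obtain ⟨b, hb, hb'⟩ := SetLike.not_le_iff_exists.1 h2
  by_cases H : a ∈ kc S (n - 3)
  · by_cases H' : b ∈ kc S 1
    · exact ⟨a * b, mul_mem ha hb, hR (mul_mem ha hb), fun h => ha' ((mul_mem_cancel_right H').1 h),
        fun h => hb' ((mul_mem_cancel_left H).1 h)⟩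
    · exact ⟨b, hb, hR hb, H', hb'⟩
  · exact ⟨a, ha, hR ha, ha', H⟩

theorem Z_le (hE : F.IsCentric E) : gp S (n - 2) ≤ E := fun _ hz =>
  centric_centralizerIn_le hE ⟨gp_le S _ hz, centralizer_le hE.1 ((center_eq m h4).ge hz).2⟩

theorem Z2_le (hE : F.IsCentric E) (hC : E ≤ kc S (n - 3)) : gp S (n - 3) ≤ E := fun _ hz =>
  centric_centralizerIn_le hE ⟨gp_le S _ hz, le_centralizer_iff.1
    (hC.trans ((kc_last m h4).le.trans inf_le_right)) hz⟩

theorem pearl (hl : LR p F) (hR : F.IsEssential p R) (h1 : ¬ R ≤ kc S 1) (h2 : ¬ R ≤ kc S (n - 3)) :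
    Nat.card R = p ^ 2 ∨ (Nat.card R = p ^ 3 ∧ ¬ IsMulCommutative R) := by
  obtain ⟨s, hs, u⟩ := exists_un_mem m h4 h1 h2 hR.1.1
  have c : ∀ g ∈ kc S 1, ⁅g, s⁆ = 1 → g ∈ gp S (n - 2) := fun g hg H =>
    mem_gp_of_cm m h4 u.1 u.2.1 (Or.inr ⟨u.2.2, by omega⟩) hg (H ▸ one_mem _)
  have hA : gp S (n - 2) ⊔ zpowers s ≤ R := sup_le (Z_le m h4 hR.1) (zpowers_le.2 hs)
  have cA : Nat.card (gp S (n - 2) ⊔ zpowers s : Subgroup Γ) = p ^ 2 := by
    rw [card_eq_of_relIndex le_sup_left (card_gp m h4 _) (relIndex_sup_zpowers (S_n_gp S _ u.1)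
      (fun H => u.2.1 H.1) (c _ (lc_le_kc S 1 (mc_pow_one m u.1)) (cm_pow_self s p))),
      show n - 1 - (n - 2) = 1 by omega, pow_one, sq]
  obtain ⟨r, hr⟩ := exists_card_eq (hl.pS.to_le hR.1.1)
  have := card_le_of_le' hA
  rw [hr, cA, Nat.pow_le_pow_iff_right hp.out.one_lt] at this
  refine this.eq_or_lt.imp (fun e : 2 = r => e ▸ hr) fun h3 => ?_
  have m' := mc_of_cent hr h3 hA cA fun x hx hc => by
    obtain ⟨k, hk, i, rfl⟩ := exists_eq_mul_zpow hl.pS (kc_le S 1) (idx_kc m h4) u.1 u.2.1 (hR.1.1 hx)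
    refine mul_mem (mem_sup_left (c k hk ?_)) (mem_sup_right (zpow_mem_zpowers s i))
    have := (commute_of_mem hc (mem_sup_right (mem_zpowers s))).mul_left ((Commute.refl s).zpow_left (-i))
    simpa [commutatorElement_eq_one_iff_commute] using this
  rcases Nat.eq_or_lt_of_le m'.three with rfl | h5
  · exact ⟨hr, m'.not_comm⟩
  · exact (hl.not_mc hR m' h5).elim

theorem inf_cs (he : e ∈ E) (he' : e ∉ kc S 1) (hE : E ≤ S) (h : E ⊓ kc S 1 = gp S k) (hk : k + 1 ≤ i)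
    (hi : i + 3 ≤ n) (h1 : X ≤ gp S (i + 1)) (h2 : gp S i ≤ cs E X) : E ⊓ cs E X = gp S i := by
  refine le_antisymm (fun v hv => mem_gp_of_cm m h4 (hE he) he' (Or.inl hi) (by_contra fun H => ?_)
    (h1 (hv.2.2 e he))) (le_inf ((gp_anti S (by omega)).trans (h.ge.trans inf_le_left)) h2)
  obtain ⟨u, hu, hu'⟩ := exists_not_mem (idx_gp m h4 (i := k) (by omega))
  exact cm_not m h4 (hE hv.1) H (Or.inl (by omega)) (by omega) hu hu'
    (gp_anti S (by omega) (h1 (cm_swap (hv.2.2 u (h.ge hu).1))))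

theorem n_upper (he : e ∈ E) (he' : e ∉ kc S 1) (hE : E ≤ kc S (n - 3)) (h : E ⊓ kc S 1 = gp S k)
    (hg : g ∈ normalizer (E : Set Γ)) (hk : k + 1 ≤ i) (hi : i + 3 ≤ n) :
    g ∈ normalizer (gp S i : Set Γ) := by
  have l := hE.trans (kc_le S _)
  induction h5 : n - 3 - i generalizing i with
  | zero =>
    obtain rfl : i = n - 3 := by omega
    rw [← inf_cs m h4 he he' l h hk hi bot_le fun x hx => ⟨norm_bot ⊤ trivial, fun y hy =>
      cm_eq_one' ((kc_last m h4).le (hE hy)).2 hx⟩]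
    exact inf_normalizer_le_normalizer_inf ⟨hg, mem_normalizer_cs (norm_bot ⊤ trivial) hg⟩
  | succ d ih =>
    rw [← inf_cs m h4 he he' l h hk hi le_rfl fun x hx => ⟨S_n_gp S _ (gp_le S _ hx), fun y hy =>
      cm_gp hx (l hy)⟩]
    exact inf_normalizer_le_normalizer_inf
      ⟨hg, mem_normalizer_cs (ih (by omega) (by omega) (by omega)) hg⟩

theorem inf_cs' (hE : E ≤ S) (h : E ⊓ kc S 1 = gp S k) (ha : a + 4 ≤ n) (h1 : X ≤ gp S (a + 2))
    (h2 : gp S k ≤ cs (gp S a) X) : E ⊓ cs (gp S a) X = gp S k := by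
  refine le_antisymm (fun v hv => h.le ⟨hv.1, by_contra fun H => ?_⟩) (le_inf (h.ge.trans inf_le_left) h2)
  obtain ⟨u, hu, hu'⟩ := exists_not_mem (idx_gp m h4 (i := a) (by omega))
  exact cm_not m h4 (hE hv.1) H (Or.inl ha) (by omega) hu hu' (h1 (cm_swap (hv.2.2 u hu)))

theorem not_le_one (h6 : n = 6) (hx : kc S (n - 3) ≠ kc S 1) (hE : F.IsCentric E) (h1 : E ≤ gp S 1)
    (hN : normalizerIn S E ≤ kc S (n - 3)) : False :=
  hx (kc_eq_of_le m h4 ((le_inf (kc_le S 1) (le_normalizer_of_cm fun g hg x hx =>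
    Z2_le m h4 hE (h1.trans (inf_le_right.trans (lc_le_kc S _))) (h6 ▸ commutator_le.1
      (dc m h4 (a := 0) (b := 1) (Or.inl (by omega))) g (gp_zero S ▸ hg) x (h1 hx)))).trans hN))

theorem C_inf (hx : kc S (n - 3) ≠ kc S 1) : kc S (n - 3) ⊓ kc S 1 = gp S 1 :=
  (inf_eq_of_ne_prime (lc_le_kc S _) (lc_le_kc S _)
    (mc_idx_max m (lc_le_kc S _) (kc_le S _) (idx_kc' m h4))
    (mc_idx_max m (lc_le_kc S _) (kc_le S _) (idx_kc m h4)) hx).trans (gp_eq S le_rfl).symm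

theorem exists_C (hx : kc S (n - 3) ≠ kc S 1) : ∃ e ∈ kc S (n - 3), e ∉ kc S 1 :=
  SetLike.not_le_iff_exists.1 fun H => not_le_of_relIndex_prime (idx_gp m h4 (i := 0) (by omega)) (by
    rw [← C_inf m h4 hx, inf_eq_left.2 H, gp_zero]
    exact (eq_or_eq_prime (idx_kc' m h4) H (kc_le S 1)).elim (·.le) fun e =>
      (not_le_of_relIndex_prime (idx_kc m h4) e.ge).elim)

theorem phi_C (hx : kc S (n - 3) ≠ kc S 1) : phi (kc S (n - 3)) = gp S 2 := by
  obtain ⟨e, he, he'⟩ := exists_C m h4 hx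
  have h6 := six_le m h4 hx
  have pC := IsPGroup.to_le m.pgroup (kc_le S (n - 3))
  refine le_antisymm ((Core.map_frattini_le_iff_of_isPGroup pC).2 ⟨?_, fun x h => ?_⟩) ?_
  · rw [← eq_sup m h4 (kc_le S _) he he' (C_inf m h4 hx)]
    have l := (eq_sup m h4 (kc_le S _) he he' (C_inf m h4 hx)).le.trans (kc_le S _)
    exact cm_sup_self (l.trans (S_n_gp S 2)) fun t ht x h => cm_gp ht (l h)
  · by_cases H : x ∈ kc S 1
    · exact gp_anti S (by omega) (pow_gp m h4 le_rfl ((C_inf m h4 hx).le ⟨h, H⟩))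
    · exact mem_gp_of_cm m h4 h.1 H (Or.inl (by omega)) (lc_le_kc S 1 (mc_pow_one m h.1))
        (cm_pow_self x p ▸ one_mem _)
  · obtain ⟨u, hu, hu'⟩ := exists_not_mem (idx_gp m h4 (i := 1) (by omega))
    exact gp_le_of_normal m h4 (fun g hg => Core.normalizer_le_normalizer_map_frattini _
      (n_kc (le_normalizer hg) _)) (Core.commutator_le_map_frattini pC (commutator_mem_commutator
        ((C_inf m h4 hx).ge hu).1 he)) (gp_le S _ (cm_gp hu he.1)) (by omega)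
      (cm_not m h4 he.1 he' (Or.inl (by omega)) (by omega) hu hu')

end CfsgLib.Fus5
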