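import Mathlib
import Cfsg.Agent.Lib.Fus5.Ext
import Cfsg.Agent.Lib.Fus5.Feit

/-!
Essential subgroups of exceptional groups which are not contained in `γ₁`.
-/

set_option autoImplicit false
set_option linter.unusedSectionVars false

namespace CfsgLib.Fus5

open Subgroup Cfsg CfsgLib.LAE CfsgLib.Fusion CfsgLib.MaxCl CfsgLib.Fus2 CfsgLib.Fus4
open Cfsg.FusionSystem hiding inv_mem
open scoped commutatorElement

variable {Γ : Type*} [Group Γ] [Finite Γ] {p n i k a : ℕ} [hp : Fact p.Prime]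
  {S E L R P T X : Subgroup Γ} {F : FusionSystem S} {e g s u v : Γ} {f : Γ → Γ}

variable (m : MC S p n) (h4 : 4 ≤ n) (hl : LR p F)
include m h4 hl

theorem exists_par' (hE : F.IsEssential p E) (h : AMod p F E L) (he : e ∈ E) (he' : e ∉ kc S 1)
    (hk : E ⊓ kc S 1 = gp S (k + 1)) (hn : k + 4 ≤ n) : ∃ L₁ ≤ L, Par p (normalizerIn S E) E L₁ := by
  obtain ⟨a, ha, ha'⟩ := h.exists_not_norm hl hE
  refine ⟨_, sup_le h.GL' ?_, h.par (relIndex_eq_of_card h.le
    (card_of_inf m h4 hE.1.1 (fun H => he' (H he)) hk) ?_) ha ha'⟩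
  · exact mem_normalizer_iff_conjS.1 (le_normalizer ha) ▸ conjS_mono h.GL'
  · rw [card_of_inf m h4 (normalizerIn_le S E) (fun H => he' (H (h.le he)))
      (norm_inf m h4 he he' hE.1.1 hk (Or.inl (by omega))), ← pow_succ]
    congr 1; omega

theorem tv (hx : kc S (n - 3) ≠ kc S 1) (hE : F.IsEssential p E) (h : AMod p F E L) (he : e ∈ E)
    (he' : e ∉ kc S 1) (hk : E ⊓ kc S 1 = gp S (k + 1)) (hn : k + 4 ≤ n) (hX : X ≤ gp S (k + 1))
    (nX : L ≤ normalizer (X : Set Γ)) (cX : gp S k ≤ centralizer (X : Set Γ))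
    (c1 : ⁅gp S k, gp S (k + 1)⁆ ≤ X) (H : gp S (n - 2) ≤ X ∨ k + 4 = n)
    (ext : ∀ f, Mor F (normalizerIn S E) f → ∃ g, Mor F S g ∧ ∀ x ∈ normalizerIn S E, g x = f x) :
    False := by
  obtain ⟨L₁, l1, P⟩ := exists_par' m h4 hl hE h he he' hk hn
  obtain ⟨y, hy, hy'⟩ := exists_not_mem (idx_gp m h4 (i := k) (by omega))
  have yN := ((norm_inf m h4 he he' hE.1.1 hk (Or.inl (by omega))).ge hy).1
  have yE : y ∉ E := fun H => hy' (hk.le ⟨H, hy.1⟩)
  obtain ⟨a, -, t1, t2, t3, t4, -⟩ := P.transvection (hk.ge.trans inf_le_left)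
    (hk ▸ idx_inf m h4 hE.1.1 fun H => he' (H he)) (inf_le_left.trans (S_n_gp S _)) hX (l1.trans nX)
    (P.res_comm_bot (l1.trans nX) yN yE (cX hy)) yN yE (commutator_le.1 c1 y hy)
  obtain ⟨z, z1, z2, z3, z4, z5⟩ := t3.exists_z
  obtain ⟨g, hg, eg⟩ := ext _ (h.mor _ le_rfl z (l1 z1) fun x => conj_mem z3)
  obtain ⟨M, -, hM, hM'⟩ := hl.exists_top
  obtain ⟨σ, hσ, eσ⟩ := hM' g hg
  have nσ := hM.norm hσ
  have e : ∀ x ∈ normalizerIn S E, σ * x * σ⁻¹ = z * x * z⁻¹ := fun x hx =>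
    (eσ x hx.1).symm.trans (eg x hx)
  obtain ⟨w1, w2⟩ := wc m h4 hx nσ (i := k) (((pr_a m h4).eq_of_ew (a := -1) (n_kc nσ 1) (hE.1.1 he) he'
    (by simpa [Ew, e _ (h.le he)] using gp_le_kc S _ (z5 _ he).1)).trans (by simp)) (by omega)
    ((ww_ew m h4 nσ hy hy' (a := 1) (hk.le ⟨by
      simpa [e _ yN, commutatorElement_def, mul_assoc] using conj_mem' yN.2 (z4 y yN), by
      simpa using (kc S 1).mul_mem ((kc S 1).inv_mem hy.1) (conj_mem (n_kc nσ 1) hy.1)⟩)).trans (by simp))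
  have key : ∀ d ∈ gp S (k + 1) ⊓ conjS a (gp S (k + 1)), ∀ i, d ∈ gp S i → d ∉ gp S (i + 1) →
      ww p S i σ ≠ -1 := fun d hd i h1 h2 H => by
    have h3 := ww_ew m h4 nσ h1 h2 (a := 1) (by
      have := commutatorElement_eq_one_iff_mul_comm.1 (cm_mem_of_res t4 z1 z2 hd)
      simp [Ew, e _ (h.le (hk.ge hd.1).1), this])
    have := six_le m h4 hx
    exact cast_ne (p := p) (k := 2) (by omega) (by omega) (by linear_combination H - h3)
  rcases H with H | rfl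
  · obtain ⟨d, h1, h2⟩ := exists_not_mem (idx_gp m h4 (i := n - 2) (by omega))
    exact key d (t1 (H h1)) _ h1 h2 w2
  · obtain ⟨d, h1, h2⟩ := SetLike.not_le_iff_exists.1 fun H : gp S (k + 1) ⊓ conjS a (gp S (k + 1)) ≤ ⊥ => by
      rw [le_bot_iff.1 H, relIndex_bot_left, card_gp m h4] at t2
      exact (by omega : k + 4 - 1 - (k + 1) ≠ 1) (Nat.pow_right_injective hp.out.two_le (t2.trans (pow_one p).symm))
    obtain ⟨i, i1, i2, i3, i4⟩ := exists_pos (k := k + 3) h1.1 (gp_bot m h4 (i := k + 3) (by omega) ▸ h2)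
    rcases (by omega : i = k + 1 ∨ i = k + 4 - 2) with rfl | rfl
    exacts [key d h1 _ i3 i4 w1, key d h1 _ i3 i4 w2]

theorem six_of_C (hx : kc S (n - 3) ≠ kc S 1) (hE : F.IsEssential p (kc S (n - 3))) : n = 6 := by
  by_contra H
  obtain ⟨L, h⟩ := hl.ex _ hE.1 hE.2.1
  obtain ⟨e, he, he'⟩ := exists_C m h4 hx
  have h6 := six_le m h4 hx
  have u := fun i g (hg : g ∈ L) => n_upper m h4 (i := i) he he' le_rfl (C_inf m h4 hx) (h.norm hg)
  refine h.false_of_chain hl hE (X := gp S 1) ((C_inf m h4 hx).ge.trans inf_le_left)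
    (phi_C m h4 hx ▸ gp_anti S (by omega)) (fun g hg => ?_)
    (C_inf m h4 hx ▸ idx_inf m h4 (kc_le S _) fun H => he' (H he))
    (phi_C m h4 hx ▸ idx_gp m h4 (by omega))
  rw [← inf_cs' m h4 (kc_le S _) (C_inf m h4 hx) (a := 2) (by omega) le_rfl fun x hx =>
    ⟨S_n_gp S _ (gp_le S _ hx), commutator_le.1 (dc_weak m h4 1 2) x hx⟩]
  exact inf_normalizer_le_normalizer_inf ⟨h.norm hg,
    mem_normalizer_cs (u 4 g hg (by omega) (by omega)) (u 2 g hg (by omega) (by omega))⟩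

theorem conj_line (hx : kc S (n - 3) ≠ kc S 1) (hE : F.IsEssential p (kc S (n - 3)))
    (he : e ∈ kc S (n - 3)) (he' : e ∉ kc S 1) :
    ∃ f, Mor F (kc S (n - 3)) f ∧ (∀ x ∈ kc S (n - 3), f x ∈ kc S (n - 3)) ∧
      ∀ x ∈ gp S 2 ⊔ zpowers e, f x ∈ gp S 1 := by
  obtain ⟨M, h⟩ := hl.ex _ hE.1 hE.2.1
  have h6 := six_le m h4 hx
  have φ := phi_C m h4 hx
  have nW : M ≤ normalizer (gp S 2 : Set Γ) :=
    φ ▸ h.norm.trans (Core.normalizer_le_normalizer_map_frattini _)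
  have b1 : gp S 2 ≤ gp S 1 := gp_anti S (by omega)
  have b2 := (C_inf m h4 hx).ge.trans inf_le_left
  have b3 := idx_gp m h4 (i := 1) (by omega)
  have b5 := C_inf m h4 hx ▸ idx_inf m h4 (kc_le S _) fun H => he' (H he)
  obtain ⟨b, hb, hbB⟩ := SetLike.not_le_iff_exists.1 fun H =>
    h.false_of_chain hl hE b2 (φ ▸ b1) H b5 (φ ▸ b3)
  have eW := mem_normalizer_iff_conjS.1 (nW hb)
  have eR := mem_normalizer_iff_conjS.1 (h.norm hb)
  obtain ⟨t, ht, ht'⟩ := exists_not_mem (idx_gp m h4 (i := 0) (by omega))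
  have tM := h.GL' ⟨gp_le S 0 ht, n_kc (le_normalizer (gp_le S 0 ht)) _⟩
  obtain ⟨i, hi⟩ := exists_conj_line h.pE (h.EL.trans nW) (nW tM) b1 b2 b3 b5
    (fun _ hn => cm_gp ht hn.1) (fun _ hn => cm_swap (cm_gp hn (gp_le S 0 ht)))
    (fun H => cm_not m h4 he.1 he' (Or.inl h4) (by omega) ht ht' (H e he)) le_sup_left
    (sup_le (b1.trans b2) (zpowers_le.2 he)) (relIndex_sup_zpowers (S_n_gp S 2 he.1)
      (fun H => he' H.1) (φ ▸ ((Core.map_frattini_le_iff_of_isPGroup h.pE).1 le_rfl).2 e he))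
    (fun H => he' (H.le (mem_sup_right (mem_zpowers e))).1) (eW ▸ conjS_mono b1) (eR ▸ conjS_mono b2)
    (by rw [← b3, ← relIndex_conjS b _ (gp S 1), eW]) (by rw [← b5, ← relIndex_conjS b (gp S 1), eR])
    fun e => hbB (mem_normalizer_iff_conjS.2 e)
  have hk := M.mul_mem (M.inv_mem hb) (zpow_mem tM i)
  refine ⟨_, h.mor _ h.le _ hk fun x hx => h.le (conj_mem (h.norm hk) hx),
    fun x => conj_mem (h.norm hk), fun x hx => ?_⟩
  rw [← conjS_inv_conjS b (gp S 1), ← hi, ← conjS_mul]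
  exact ⟨x, hx, rfl⟩

theorem case7 (hE : F.IsEssential p E) (h1 : E ≤ kc S (n - 3)) (h2 : ¬ E ≤ kc S 1)
    (mx : ∀ R, F.IsEssential p R → Nat.card E < Nat.card R → R ≤ kc S (n - 3) →
      R = kc S 1 ∨ R = kc S (n - 3)) : E = kc S (n - 3) := by
  by_contra h3
  have hx : kc S (n - 3) ≠ kc S 1 := fun e => h2 (e ▸ h1)
  have h6 := six_le m h4 hx
  obtain ⟨L, h⟩ := hl.ex E hE.1 hE.2.1
  obtain ⟨e, he, he'⟩ := SetLike.not_le_iff_exists.1 h2
  obtain ⟨k, hn, hk⟩ := exists_eq' m h4 (X := E ⊓ kc S 1) (hE.1.1 he) he'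
    (inf_normalizer_le_normalizer_inf ⟨le_normalizer he, n_kc (le_normalizer (hE.1.1 he)) 1⟩)
    inf_le_right (le_inf (Z2_le m h4 hE.1 h1) (gp_le_kc S _))
  obtain ⟨k, rfl⟩ : ∃ j, k = j + 2 := ⟨k - 2, by_contra fun H => h3 (le_antisymm h1 (by
    rw [← eq_sup m h4 (kc_le S _) (h1 he) he' (C_inf m h4 hx), ← eq_sup m h4 hE.1.1 he he' hk]
    exact sup_le_sup_right (gp_anti S (by omega)) _))⟩
  have hN := norm_inf m h4 he he' hE.1.1 hk (Or.inl (by omega))
  have gC : gp S (k + 1) ≤ kc S (n - 3) :=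
    (gp_anti S (by omega)).trans ((C_inf m h4 hx).ge.trans inf_le_left)
  have cZ := gC.trans ((kc_last m h4).le.trans inf_le_right)
  have NC : normalizerIn S E ≤ kc S (n - 3) :=
    (eq_sup m h4 inf_le_left (h.le he) he' hN).ge.trans (sup_le gC (zpowers_le.2 (h1 he)))
  have u := fun i g (hg : g ∈ L) => n_upper m h4 (i := i) he he' h1 hk (h.norm hg)
  by_cases H : k + 7 ≤ n
  · obtain ⟨L₁, l1, P⟩ := exists_par' m h4 hl hE h he he' hk (by omega)
    obtain ⟨y, hy, hy'⟩ := exists_not_mem (idx_gp m h4 (i := k + 1) (by omega))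
    have yN := (hN.ge hy).1
    have yE : y ∉ E := fun H => hy' (hk.le ⟨H, hy.1⟩)
    have u' : ∀ i, k + 2 ≤ i → i + 3 ≤ n → L₁ ≤ normalizer (gp S i : Set Γ) := fun i i1 i2 g hg => by
      rcases i1.eq_or_lt with rfl | i1
      · rw [← inf_cs' m h4 hE.1.1 hk (a := n - 4) (by omega) bot_le fun x hx => ⟨norm_bot ⊤ trivial,
          commutator_le.1 ((dc_weak m h4 _ _).trans (gp_bot m h4 (by omega)).le) x hx⟩]
        exact inf_normalizer_le_normalizer_inf ⟨P.norm hg,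
          mem_normalizer_cs (norm_bot ⊤ trivial) (u _ g (l1 hg) (by omega) (by omega))⟩
      · exact u i g (l1 hg) i1 i2
    have key : ∀ i, k + 2 + i + 3 ≤ n → ⁅pResOf p L₁, E⁆ ≤ gp S (k + 2 + i) := fun i hi => by
      induction i with
      | zero => exact P.res_comm_le (u' _ le_rfl hi) P.norm yN yE fun x hx => cm_gp hy (hE.1.1 hx)
      | succ i ih =>
        exact res_trans (pg_gp m h4 _) (gp_anti S (Nat.le_succ _)) (P.res_comm_le (u' _ (by omega) hi)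
          (u' (k + 2 + i) (by omega) (by omega)) yN yE fun x hx => cm_swap (cm_gp hx yN.1)) (ih (by omega))
    exact P.res_not_le (res_trans (pg_gp m h4 _) bot_le (P.res_comm_bot (u' (n - 3) (by omega) (by omega))
      yN yE (cZ hy)) (by simpa [show k + 2 + (n - 5 - k) = n - 3 by omega] using key (n - 5 - k) (by omega)))
  have ext : ∀ f, Mor F (normalizerIn S E) f → ∃ g, Mor F S g ∧ ∀ x ∈ normalizerIn S E, g x = f x :=
    fun f hf => by
    obtain ⟨M, -, hM, hM'⟩ := hl.exists_top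
    refine (ext_T hl le_rfl (fun _ => Mor.img_top) (Φ := fun P => P ≤ S ∧ ¬ P ≤ kc S 1 ∧
      Nat.card P = Nat.card (normalizerIn S E)) (fun _ H => H.1) (fun P g H hg _ => ?_)
      (fun R P hR l H => False.elim ?_) hf ⟨inf_le_left, fun H => he' (H (h.le he)), rfl⟩).imp
      fun g H => ⟨H.1, H.2.2⟩
    · obtain ⟨σ, hσ, eσ⟩ := hM' g hg
      exact ⟨(hg.mono H.1).img_le, fun H' => H.2.1 fun x hx => mem_of_conj_mem (n_kc (hM.norm hσ) 1)
        (eσ x (H.1 hx) ▸ H' (mem_img_of_mem g hx)), (hg.card_img_of_le H.1).trans H.2.2⟩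
    have c1 := H.2.2 ▸ card_le_of_le' l
    have r1 : ¬ R ≤ kc S 1 := fun H' => H.2.1 (l.trans H')
    by_cases r2 : R ≤ kc S (n - 3)
    · obtain rfl := (mx R hR ((card_lt_of_lt' (essential_lt_normalizerIn hl.pS hl.sat hE)).trans_le c1)
        r2).resolve_left fun e => r1 e.le
      obtain ⟨f, f1, f2, f3⟩ := conj_line m h4 hl hx hR (h1 he) he'
      refine not_le_one m h4 (six_of_C m h4 hl hx hR) hx (centric_of_isConj hE.1 (f1.mono h1).isConj)
        (img_le_iff.2 fun x hx => f3 x ?_) (f1.img_normalizerIn_eq h1 NC hE.2.1 ▸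
          img_le_iff.2 fun x hx => f2 x (NC hx))
      exact sup_le_sup_right (gp_anti S (by omega)) _ ((eq_sup m h4 hE.1.1 he he' hk).ge hx)
    · rw [card_of_inf m h4 (normalizerIn_le S E) (fun H => he' (H (h.le he))) hN] at c1
      rcases pearl m h4 hl hR r1 r2 with e | ⟨e, -⟩ <;> exact not_pow_le (e ▸ c1) (by omega)
  by_cases H' : k + 5 = n
  · exact tv m h4 hl hx hE h he he' hk (by omega) bot_le (norm_bot L) (le_centralizer_iff.1 bot_le)
      (commutator_le.2 fun x hx y hy => cm_eq_one (cZ hx) (by rwa [show n - 3 = k + 1 + 1 by omega]))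
      (Or.inr H') ext
  · exact tv m h4 hl hx hE h he he' hk (by omega) (gp_anti S (by omega))
      (fun g hg => u (n - 3) g hg (by omega) (by omega)) cZ
      (commutator_le.2 fun x hx y hy => gp_anti S (by omega) (cm_swap (cm_gp hy (gp_le S _ hx))))
      (Or.inl (gp_anti S (by omega))) ext

theorem no_cube (hx : kc S (n - 3) ≠ kc S 1) (hE : F.IsEssential p E) (h1 : ¬ E ≤ kc S 1)
    (h2 : ¬ E ≤ kc S (n - 3)) (c3 : Nat.card E = p ^ 3) (na : ¬ IsMulCommutative E) : False := by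
  have h6 := six_le m h4 hx
  obtain ⟨L, h⟩ := hl.ex E hE.1 hE.2.1
  obtain ⟨s, hs, u⟩ := exists_un_mem m h4 h1 h2 hE.1.1
  obtain ⟨k, hn, hk⟩ := u.exists_eq m h4 (X := E ⊓ kc S 1)
    (inf_normalizer_le_normalizer_inf ⟨le_normalizer hs, n_kc (le_normalizer u.1) 1⟩) inf_le_right
  have := Nat.pow_right_injective hp.out.two_le (c3.symm.trans (card_of_inf m h4 hE.1.1 h1 hk))
  obtain ⟨k, rfl⟩ : ∃ j, k = j + 1 := ⟨k - 1, by omega⟩
  have e : ⁅E, E⁆ = gp S (k + 2) := by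
    have es := eq_sup m h4 hE.1.1 hs u.2.1 hk
    refine (eq_or_eq_prime (gp_bot m h4 (i := k + 2 + 1) (by omega) ▸ idx_gp m h4 (by omega)) bot_le
      (es ▸ cm_sup_self ((es.le.trans hE.1.1).trans (S_n_gp S _)) fun t ht x hx =>
        cm_gp ht (hE.1.1 (es.le hx)))).resolve_left fun H => na ⟨⟨fun a b => Subtype.ext
          (commutatorElement_eq_one_iff_mul_comm.1 (H.le (commutator_mem_commutator a.2 b.2)))⟩⟩
  exact tv m h4 hl hx hE h hs u.2.1 hk (by omega) (gp_anti S (Nat.le_succ _))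
    (fun g hg => e ▸ n_lc (h.norm hg) 1) (fun g hg => mem_centralizer_of_cm fun y hy =>
      (gp_bot m h4 (by omega)).le (cm_swap (cm_gp hy (gp_le S _ hg))))
    (commutator_le.2 fun x hx y hy => cm_swap (cm_gp hy (gp_le S _ hx)))
    (Or.inr (by omega)) fun f hf =>
      hl.ext_cube hf (essential_lt_normalizerIn hl.pS hl.sat hE) hE.1 c3 na

end CfsgLib.Fus5
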