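import Mathlib
import Cfsg.Agent.Lib.Fus5.Ext
import Cfsg.Agent.Lib.Fusion.KNorm
import Cfsg.Agent.Lib.Fusion.Factor

/-!
Passage to the quotient of the centraliser system of the centre.
-/

set_option autoImplicit false
set_option linter.unusedSectionVars false

namespace CfsgLib.Fus5

open Subgroup Cfsg CfsgLib.LAE CfsgLib.Fusion CfsgLib.MaxCl CfsgLib.Fus2 CfsgLib.Fus4
open Cfsg.FusionSystem hiding inv_mem
open scoped commutatorElement

universe u

variable {Γ : Type u} [Group Γ] [Finite Γ] {p n : ℕ} [hp : Fact p.Prime]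
  {S E L Z : Subgroup Γ} {F F₁ : FusionSystem S} {M : Subgroup L}
  {Ω : Type*} [Group Ω] {S' : Subgroup Ω} {F' : FusionSystem S'} {t : Γ → Ω}

theorem mem_of_stab (h : Mod p (normalizerIn S E) E L) (hZE : Z ≤ E)
    (hZ : S ≤ centralizer (Z : Set Γ)) {k : Γ} (hk : k ∈ L) (h1 : k ∈ centralizer (Z : Set Γ))
    (h2 : ∀ e ∈ E, ⁅k, e⁆ ∈ Z) : k ∈ S := by
  have hK : L ⊓ (centralizer (Z : Set Γ) ⊓ cs E Z) ≤ L := inf_le_left
  have nZ := le_centralizer_normalizer hZ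
  exact ((h.syl.eq_of_le (h.pG.to_sup_of_normal_right' (h.isPGroup_of_cent hK fun z hz hc =>
    mem_centralizer_of_cm fun e he => cm_trans hc (h.pX hZE) bot_le (fun _ => cm_eq_one hz.2.1)
      (hz.2.2.2 e he)) fun g hg => inf_normalizer_le_normalizer_inf ⟨le_normalizer (h.GL' hg),
      inf_normalizer_le_normalizer_inf ⟨Core.normalizer_le_normalizer_centralizer _ (nZ hg.1),
        mem_normalizer_cs (nZ hg.1) hg.2⟩⟩) le_sup_left (sup_le h.GL' hK)).le
    (mem_sup_right ⟨hk, h1, le_centralizer_normalizer le_rfl h1, h2⟩)).1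

theorem quot_essential (hl : LR p F) (hE : F.IsEssential p E) (h : AMod p F E L)
    (hM : S.subgroupOf L ≤ M)
    (spe : ∀ g, ∀ u ∈ M, IsPGroup p (zpowers u) → u.1 ∉ E → g * u * g⁻¹ ∈ M → g ∈ M) (hZE : Z ≤ E)
    (hZ : S ≤ centralizer (Z : Set Γ)) (h1 : ∀ P f, Mor F₁ P f ↔ CMor F Z P f)
    (s1 : F₁.IsSaturated p) (sc : F₁.StronglyClosed Z) (hf : IsFactor F₁ Z t F') {x : L}
    (hx : x.1 ∈ centralizer (Z : Set Γ)) (hxM : x ∉ M) : F'.IsEssential p (img E t) := by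
  have := hf.finite
  have pS' := hf.isPGroup hl.pS
  have hES := hE.1.1
  have fn : F₁.IsFullyNormalized E := ⟨hES, fun Q hQ => hE.2.1.2 Q (isConj_sub
    (isSubsystemOf_iff.2 fun P f hf => ((h1 P f).1 hf).mor) hQ)⟩
  have lt : ∀ Q, img E t < Q → Q ≤ S' → E < pre S t Q := fun Q a b =>
    lt_of_le_of_ne (fun e he => hf.mem_pre.2 ⟨hES he, a.le (mem_img_of_mem t he)⟩)
      fun e => a.ne (by rw [e, hf.img_pre b])
  refine (essential_iff_not_le_extendableAuts pS' (hf.saturated hl.pS s1 sc) (lt_of_le_of_ne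
    (hf.img_le hES) fun e => (essential_lt hl.pS hl.sat hE).not_ge fun s hs =>
      (hf.mem_img_iff hES hZE hs).1 (e ▸ hf.mem hs)) (fullyNormalized_of_receptive pS'
    (hf.fullyAutomized_img sc (sat_fullyAutomized hl.pS s1 fn) hZE) (hf.receptive_img hl.pS sc
      (sat_fullyAutomized hl.pS s1 fn) (sat_receptive_of_fullyNormalized hl.pS s1 fn) hZE))).2
    fun H => hxM ?_
  have c := fun (l : L) e => conj_mem (x := e) (h.norm l.2)
  let B : Subgroup (MulAut (img E t)) :=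
    { carrier := {α | ∃ l ∈ M, l.1 ∈ centralizer (Z : Set Γ) ∧
        ∀ e ∈ E, extAut α (t e) = t (l * e * (l : Γ)⁻¹)}
      one_mem' := ⟨1, one_mem _, one_mem _, fun e _ => by simp⟩
      mul_mem' := fun ⟨a, a1, a2, a3⟩ ⟨b, b1, b2, b3⟩ => ⟨a * b, mul_mem a1 b1, mul_mem a2 b2,
        fun e he => by rw [extAut_mul_apply, b3 e he, a3 _ (c b e he)]; simp [mul_assoc]⟩
      inv_mem' := fun {α} ⟨a, a1, a2, a3⟩ => ⟨a⁻¹, inv_mem a1, inv_mem a2, fun e he => by
        rw [← extAut_inv_apply α (t (_ * e * _)), a3 _ (c a⁻¹ e he)]; simp [mul_assoc]⟩ }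
  obtain ⟨f', f1, f2⟩ := hf.ind_of_le sc ((h1 _ _).2 (cMor_of (h.mor E h.le x x.2 fun e he =>
    h.le (c x e he)) hZE le_rfl (le_inf hES (hES.trans hZ)) fun z hz => by
      rw [← hx z hz, mul_inv_cancel_right])) hZE
  have := Fusion.finite_of_le f1.le
  obtain ⟨α, hα, eα⟩ := f1.exists_aut_of_mem fun y hy => by
    obtain ⟨e, he, rfl⟩ := (hf.hom.mono hES).mem_img.1 hy
    exact f2 e he ▸ mem_img_of_mem t (c x e he)
  obtain ⟨l, l1, l2, l3⟩ := (extendableAuts_le_iff (B := B)).2 (fun β Q g a b e => by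
    obtain ⟨k, k1, k2⟩ := hf.lift b
    have hQ := lt Q a b.le
    obtain ⟨-, k', k3, k4, k5⟩ := (h1 _ _).1 k1
    obtain ⟨u, u1, u2, u3⟩ := exists_mem_normalizer_notMem (hl.pS.to_le (pre_le S t Q)) hQ
    have ek : img E k' = E := (k3.mono (hQ.le.trans le_sup_left)).img_eq_self fun y hy =>
      (hf.mem_img_iff hES hZE (k3.mem (mem_sup_left (hQ.le hy)))).1 (by
        rw [k4 y (hQ.le hy), ← k2 y (hQ.le hy), e _ (mem_img_of_mem t hy)]
        exact extAut_mem β (mem_img_of_mem t hy))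
    have hR := k3.mono ((inf_le_left (b := normalizerIn S E)).trans le_sup_left)
    obtain ⟨l, hl', el⟩ := h.lift _ k' (le_inf hQ.le h.le) inf_le_right hR ek
    have uR : u ∈ pre S t Q ⊓ normalizerIn S E := ⟨u1, pre_le S t Q u1, u2⟩
    refine ⟨⟨l, hl'⟩, spe _ ⟨u, h.GL' uR.2⟩ (hM uR.2.1) (pg_zpowers (hl.pS.comap_of_injective _
      L.subtype_injective) uR.2.1) u3 (hM (show l * u * l⁻¹ ∈ S from el u uR ▸ hR.mem uR)),
      fun z hz => ?_, fun y hy => ?_⟩
    · rw [eq_comm, ← mul_inv_eq_iff_eq_mul, ← el z ⟨hQ.le (hZE hz), h.le (hZE hz)⟩, k5 z hz]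
    · rw [← e _ (mem_img_of_mem t hy), k2 y (hQ.le hy), ← k4 y (hQ.le hy), el y ⟨hQ.le hy, h.le hy⟩])
    (H hα)
  refine (mul_mem_cancel_left (inv_mem l1)).1 (hM (mem_of_stab h.toMod hZE hZ (l⁻¹ * x).2
    (mul_mem (inv_mem l2) hx) fun e he => ?_))
  have := (hf.eq_iff (hES (c l _ he)) (hES (c x _ he))).1
    ((l3 _ he).symm.trans ((eα _ (mem_img_of_mem t he)).trans (f2 _ he)))
  have h2 := conj_mem (le_normalizer_of_cm (H := E) (fun g hg z hz =>
    cm_eq_one (hZ (hES hg)) hz ▸ one_mem _) he) (conj_mem' (le_centralizer_normalizer le_rfl l2) this)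
  convert h2 using 1
  simp [commutatorElement_def, mul_assoc]

theorem img_lc (hf : IsFactor F₁ Z t F') (i : ℕ) : img (lc S i) t = lc S' i := by
  induction i with
  | zero => exact hf.img_eq
  | succ i ih =>
    exact (hf.hom.img_commutator (lc_le S i) le_rfl).trans (by rw [ih, hf.img_eq]; rfl)

theorem quot_mc (m : MC S p n) (h5 : 5 ≤ n) (hf : IsFactor F₁ (gp S (n - 2)) t F') :
    MC S' p (n - 1) ∧ ∀ x ∈ S, t x ∈ kc S' 1 ↔ x ∈ kc S 1 := by
  have := hf.finite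
  have l : ∀ i, 1 ≤ i → i + 2 ≤ n → ∀ x ∈ S, t x ∈ lc S' i ↔ x ∈ lc S i := fun i a b x hx =>
    img_lc hf i ▸ hf.mem_img_iff (lc_le S i) (inf_le_right.trans (lc_anti S (by omega))) hx
  refine ⟨mc_of_lcs_ne_bot ?_ (by omega) fun H => ?_, fun x hx => ?_⟩
  · have e := card_eq_card_quotient_mul_card_subgroup hf.hom.toHom.ker
    rw [Nat.card_congr (QuotientGroup.quotientKerEquivRange hf.hom.toHom).toEquiv, hf.hom.range_toHom,
      hf.img_eq, show hf.hom.toHom.ker = (gp S (n - 2)).subgroupOf S from ext fun x => hf.ker x x.2,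
      Nat.card_congr (subgroupOfEquivOfLe hf.le).toEquiv, card_gp m (by omega), m.card,
      show n - 1 - (n - 2) = 1 by omega, pow_one] at e
    refine Nat.eq_of_mul_eq_mul_right hp.out.pos (e.symm.trans ?_)
    rw [← pow_succ, show n - 1 + 1 = n by omega]
  · obtain ⟨g, hg, hg'⟩ := exists_not_mem (idx_gp m (by omega) (i := n - 1 - 2) (by omega))
    exact hg' ((show n - 2 = n - 1 - 2 + 1 by omega) ▸ (hf.ker g hg.1.1).1
      (H.le ((l _ (by omega) (by omega) g hg.1.1).2 hg.2)))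
  · rw [mem_kc, mem_kc]
    refine ⟨fun H => ⟨hx, fun g hg => (l 3 (by omega) h5 _ (commutator_le_self S
      (commutator_mem_commutator hx (lc_le S 1 hg)))).1 ?_⟩, fun H => ⟨hf.mem hx, fun g hg => ?_⟩⟩
    · exact hf.hom.map_commutator hx (lc_le S 1 hg) ▸ H.2 _ (img_lc hf 1 ▸ mem_img_of_mem t hg)
    · obtain ⟨g, h1, rfl⟩ := (hf.hom.mono (lc_le S 1)).mem_img.1 (img_lc hf 1 ▸ hg)
      exact hf.hom.map_commutator hx (lc_le S 1 h1) ▸ img_lc hf 3 ▸ mem_img_of_mem t (H.2 g h1)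

/-- The inductive statement. -/
def IH (p n : ℕ) : Prop := ∀ (Ω : Type u) [Group Ω] [Finite Ω] (S E : Subgroup Ω) (F : FusionSystem S),
  MC S p n → F.IsSaturated p → F.IsEssential p E → E ≤ kc S 1 → E = kc S 1

theorem cen_le (ih : IH.{u} p (n - 1)) (m : MC S p n) (h5 : 5 ≤ n) (hl : LR p F)
    (hE : F.IsEssential p E) (h : AMod p F E L) (hM : S.subgroupOf L ≤ M)
    (spe : ∀ g, ∀ u ∈ M, IsPGroup p (zpowers u) → u.1 ∉ E → g * u * g⁻¹ ∈ M → g ∈ M)
    (hK : E ≤ kc S 1) (hne : E ≠ kc S 1) (x : L) (hx : x.1 ∈ centralizer (gp S (n - 2) : Set Γ)) :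
    x ∈ M := by
  by_contra hxM
  have hZ : S ≤ centralizer (gp S (n - 2) : Set Γ) :=
    le_centralizer_iff.1 ((center_eq m (by omega)).ge.trans inf_le_right)
  have e : centralizerIn S (gp S (n - 2)) = S := inf_eq_left.2 hZ
  have := isMorPred_cMor F (gp_le S (n - 2))
  rw [e] at this
  obtain ⟨F₁, h1⟩ := exists_fs_of_isMorPred this
  have s1 : F₁.IsSaturated p := kNorm_saturated (K := ⊥) hl.pS hl.sat
    (fullyCentralized_of_le_centralizer (gp_le S _) hZ) (by simpa using sylIn_self IsPGroup.of_bot)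
    (e.symm.trans (kNormIn_bot S _).symm) fun _ _ => (h1 _ _).trans kMor_bot_iff.symm
  have sc : F₁.StronglyClosed (gp S (n - 2)) := stronglyClosed_iff.2 ⟨gp_le S _, fun P f hf x a b => by
    obtain ⟨-, g, -, e1, e2⟩ := (h1 P f).1 hf
    rwa [← e1 x a, e2 x b]⟩
  have : ((gp S (n - 2)).subgroupOf S).Normal :=
    (normal_subgroupOf_iff_le_normalizer (gp_le S _)).2 (S_n_gp S _)
  obtain ⟨F', hf⟩ := exists_isFactor_quotient sc
  obtain ⟨m', k⟩ := quot_mc m h5 hf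
  have hZE := Z_le m (by omega) hE.1
  have := ih _ _ _ F' m' (hf.saturated hl.pS s1 sc) (quot_essential hl hE h hM spe hZE hZ h1 s1 sc hf hx hxM)
    (img_le_iff.2 fun g hg => (k g (hK hg).1).2 (hK hg))
  exact hne (le_antisymm hK fun g hg => (hf.mem_img_iff hE.1.1 hZE hg.1).1 (this ▸ (k g hg.1).2 hg))

end CfsgLib.Fus5
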