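import Mathlib
import Cfsg.Agent.Lib.Fus5.Cfg

/-!
Essential subgroups properly contained in `γ₁`: the exceptional case.
-/

set_option autoImplicit false
set_option linter.unusedSectionVars false

namespace CfsgLib.Fus5

open Subgroup Module Cfsg CfsgLib.LAE CfsgLib.Fusion CfsgLib.MaxCl CfsgLib.Fus2 CfsgLib.Fus4
open scoped commutatorElement

universe u

variable {Γ : Type u} [Group Γ] [Finite Γ] {p n j i k t d : ℕ} [hp : Fact p.Prime]
  {S N E L H X Y : Subgroup Γ} {y x τ σ g u v z : Γ} {a b c : ℤ}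

theorem Lin2.iter {V : Type u} [AddCommGroup V] [Module (ZMod p) V] {q : Γ → V}
    {π : L →* End (ZMod p) V} {sb : Subgroup Γ → Submodule (ZMod p) V} (h : Lin2 p X Y L q π sb)
    (g : L) (H : ∀ v ∈ X, (fun v => ⁅g.1, v⁆)^[k] v ∈ Y) : (π g - 1) ^ k = 0 := by
  have : ∀ k, ∀ v ∈ X, (fun v => ⁅g.1, v⁆)^[k] v ∈ X ∧
      ((π g - 1) ^ k) (q v) = q ((fun v => ⁅g.1, v⁆)^[k] v) := fun k => by
    induction k with
    | zero => exact fun v hv => ⟨hv, rfl⟩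
    | succ k ih =>
      intro v hv
      rw [pow_succ, End.mul_apply, h.cm g hv]
      exact ih _ (cm_mem_right (h.nX g.2) hv)
  refine LinearMap.ext fun v => ?_
  obtain ⟨e, he, rfl⟩ := h.surj v
  exact (this k e he).2.trans ((h.zero _ (this k e he).1).2 (H e he))

/-- The preimage of `Ω₁ Z(E / Y)`. -/
def up1 (p : ℕ) (E Y : Subgroup Γ) : Subgroup Γ where
  carrier := {v | v ∈ E ⊓ cs E Y ∧ v ^ p ∈ Y}
  one_mem' := ⟨one_mem _, by simp⟩
  mul_mem' := fun ha hb => ⟨mul_mem ha.1 hb.1,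
    mul_pow_mem ha.1.2.1 hb.1.2.1 (ha.1.2.2 _ hb.1.1) ha.2 hb.2⟩
  inv_mem' := fun ha => ⟨inv_mem ha.1, by rw [inv_pow]; exact inv_mem ha.2⟩

namespace Cg

variable (h : Cg p n j S N E L H y x τ a b)
include h

theorem ystep (hv : v ∈ gp S t) : ⁅y, v⁆ ∈ gp S (min (t + (j + 3)) (n - 2)) := by
  by_cases H : j + 1 + t + 4 ≤ n
  · exact gp_anti S (by omega) (commutator_le.1 (dc h.mc h.h4 (Or.inl H)) y h.yj v hv)
  · exact gp_anti S (by omega) (commutator_le.1 (dc_weak h.mc h.h4 _ _) y h.yj v hv)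

theorem yiter (hv : v ∈ E) (k : ℕ) : (fun v => ⁅y, v⁆)^[k] v ∈ gp S (min (k * (j + 3)) (n - 2)) := by
  induction k with
  | zero => simpa [gp_zero] using h.EK hv
  | succ k ih =>
    rw [Function.iterate_succ_apply', add_mul]
    exact gp_anti S (by omega) (h.ystep ih)

theorem inf_E (hg : g ∈ E) (h1 : g ∈ gp S (j + 1)) : g ∈ gp S (j + 2) := by_contra fun H =>
  h.yE (sup_le h.jE (zpowers_le.2 hg) ((sup_gp h.mc h.h4 h1 H).ge h.yj))

theorem not_nZ (H : L ≤ normalizer (gp S (n - 2) : Set Γ)) : False := by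
  obtain ⟨z, hz, z1⟩ := exists_not_mem h.prZ.idx
  exact z1 (inv_eq_one.1 ((h.yxz (H h.τL) (fun _ _ => rfl) hz).1.symm.trans
    (h.cZ h.yj.1.1 (cm_mem_right (H h.xL) hz))))

variable (hx : kc S (n - 3) ≠ kc S 1)
include hx

theorem mem_gp (hv : v ∈ kc S 1) (ht : t + k + 2 = n) (H : ∀ u ∈ gp S t, ⁅v, u⁆ = 1) : v ∈ gp S k := by
  by_contra H'
  obtain ⟨i, -, i1, i2, i3⟩ := exists_pos (gp_zero S ▸ hv) H'
  obtain ⟨u, hu, hu'⟩ := exists_not_mem (idx_gp h.mc h.h4 (i := n - 3 - i) (by omega))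
  exact pair_ne h.mc h.h4 hx (by omega) i2 i3 hu hu' (H u (gp_anti S (by omega) hu))

theorem y_om (hv : v ∈ om p E) : ⁅y, v⁆ ∈ gp S (n - 2) :=
  have := h.jn
  gp_anti S (by omega) (commutator_le.1 (dc_weak h.mc h.h4 _ _) y h.yj v
    (h.mem_gp hx (k := n - 4 - j) (h.EK hv.1) (by omega) fun _ hu => cm_eq_one hv.2.1 (h.jE hu)))

theorem NE : N ≤ E ⊔ zpowers y := by
  obtain ⟨z, hz, z1⟩ := exists_not_mem h.prZ.idx
  refine h.rk z (h.Zom hz) (fun g hg => h.cZ (h.NK hg).1 hz) fun v hv => ?_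
  simpa using (sup_zpowers_eq bot_le h.prZ.idx hz z1).ge (h.y_om hx hv)

theorem idx : E.relIndex N = p := by
  have := h.h5
  rw [le_antisymm (h.NE hx) (sup_le h.md.le (zpowers_le.2 h.yN))]
  exact relIndex_sup_zpowers (h.md.GN h.yN) h.yE
    (h.jE (gp_anti S (by omega) (pow_gp h.mc h.h4 (by omega) h.yj)))

theorem pos (hi : i + 2 ≤ n) (h1 : i ≠ j + 1) (h2 : i ≤ j → gp S i ≤ N) :
    ∃ e ∈ E, e ∈ gp S i ∧ e ∉ gp S (i + 1) := by
  obtain ⟨g, hg, hg'⟩ := exists_not_mem (idx_gp h.mc h.h4 hi)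
  by_cases H : i ≤ j
  · obtain ⟨e, he, k, rfl⟩ := (mem_sup_zpowers (h.md.GN h.yN)).1 (h.NE hx (h2 H hg))
    have := zpow_mem (gp_anti S (show i + 1 ≤ _ by omega) h.yj) k
    exact ⟨e, he, (mul_mem_cancel_right (gp_anti S i.le_succ this)).1 hg, fun H => hg' (mul_mem H this)⟩
  · exact ⟨g, h.jE (gp_anti S (by omega) hg), hg, hg'⟩

theorem na' : ¬ ⁅kc S 1, kc S 1⁆ ≤ gp S (n - 2) := fun H => by
  have h6 := six_le h.mc h.h4 hx
  have jn := h.jn
  rcases eq_or_eq_prime h.prZ.idx bot_le ((commutator_mono h.EK h.EK).trans H) with e | e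
  · have key : ∀ i k, i + k + 3 = n → i ≠ j + 1 → k ≠ j + 1 → False := fun i k e1 e2 e3 => by
      have l := fun i g (hg : g ∈ gp S i) => h.eN g hg.1.1 (mem_normalizer_of_cm fun x hx =>
        (h.Zom (H (commutator_mem_commutator hg.1 (h.EK hx)))).1)
      obtain ⟨u, u1, u2, u3⟩ := h.pos hx (i := i) (by omega) e2 fun _ => l i
      obtain ⟨v, v1, v2, v3⟩ := h.pos hx (i := k) (by omega) e3 fun _ => l k
      exact pair_ne h.mc h.h4 hx e1 u2 u3 v2 v3 (e.le (commutator_mem_commutator u1 v1))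
    by_cases H' : j + 4 = n
    exacts [key 1 (n - 4) (by omega) (by omega) (by omega), key 0 (n - 3) (by omega) (by omega) (by omega)]
  · exact h.not_nZ fun g hg => e ▸ n_lc (h.md.norm hg) 1

theorem exists_c' : ∃ c T, ∀ g ∈ normalizer (S : Set Γ), ww p S (n - 2) g = wa p S g ^ T ∧
    ∀ i, i + 3 ≤ n → ww p S i g = wa p S g ^ (c + i) := by
  have h4 := h.h4
  obtain ⟨c, hc⟩ := exists_c h.mc h4 (t := n - 3) (by omega) (Or.inl (by omega))
    ((show n - 2 = n - 3 + 1 by omega) ▸ h.na' hx)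
  exact ⟨c, (c + 0) * 2 + (n - 3), fun g hg => ⟨by
    rw [ww_last h.mc h4 hx hg, hc g hg 0 (by omega), pow_add _ (_ * 2), pow_mul],
    fun i hi => hc g hg i (by omega)⟩⟩

theorem HN : H ≤ normalizer (S : Set Γ) := by
  have h4 := h.h4
  obtain ⟨c, T, hc⟩ := h.exists_c' hx
  have hm : Hm p n S H := ⟨h.mH, h.mc, h4, h.na, fun g hg e i hi => by
    by_cases H : i + 3 ≤ n
    · rw [(hc g hg).2 i H, e, one_pow]
    · rw [show i = n - 2 by omega, (hc g hg).1, e, one_pow]⟩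
  have eZ : kc S 1 ⊓ centralizer (kc S 1 : Set Γ) = gp S (n - 2) := le_antisymm
    (fun v hv => h.mem_gp hx (t := 0) hv.1 (by omega) fun u hu => cm_eq_one hv.2 hu.1)
    fun z hz => ⟨hz.1, centralizer_le (kc_le S 1) ((center_eq h.mc h4).ge hz).2⟩
  have nZ : H ≤ normalizer (gp S (n - 2) : Set Γ) := fun g hg => eZ ▸ inf_normalizer_le_normalizer_inf
    ⟨h.mH.norm hg, Core.normalizer_le_normalizer_centralizer _ (h.mH.norm hg)⟩
  obtain ⟨σ, hσ, e⟩ := h.ext τ h.τL h.nN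
  exact hm.normal fun g hg hn => (_root_.pow_one _).symm.trans (hm.pow_eq_one (h.prZ.hom (norm_bot H) nZ)
    h.prim (σ := ⟨σ, hσ⟩) ((h.prZ.eq (h.wZ (nZ hσ) e)).trans (_root_.pow_one _).symm) hg hn)

theorem exists_r (hi : i + 3 ≤ n) : ∃ r, r ≠ 0 ∧ r + 1 ≤ p ∧ ∀ g ∈ normalizer (S : Set Γ),
    ww p S (n - 2) g ^ r = ww p S i g := by
  have h5 := h.h5
  have : NeZero (p - 1) := ⟨by omega⟩
  obtain ⟨c, T, hc⟩ := h.exists_c' hx
  obtain ⟨σ, hσ, e⟩ := h.ext τ h.τL h.nN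
  have k := fun g hg => ZMod.pow_card_sub_one_eq_one (wa_ne h.mc h.h4 (h := g) hg)
  have e1 := (hc σ (h.HN hx hσ)).1
  obtain ⟨s, -, hs⟩ := h.prim.eq_pow_of_pow_eq_one (k σ (h.HN hx hσ))
  rw [h.wwZ (h.HN hx hσ) e, ← hs, ← pow_mul] at e1
  refine ⟨(s * (c + i) + (p - 2)) % (p - 1) + 1, by omega, by
    have := Nat.mod_lt (s * (c + i) + (p - 2)) (show 0 < p - 1 by omega); omega, fun g hg => ?_⟩
  have k2 := ZMod.pow_card_sub_one_eq_one (ww_ne h.mc h.h4 hg (i := n - 2) (by omega))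
  obtain ⟨l, -, hl⟩ := h.prim.eq_pow_of_pow_eq_one (k g hg)
  rw [pow_succ, ← pow_eq_pow_mod _ k2, ← pow_succ, add_assoc, show p - 2 + 1 = p - 1 by omega, pow_add,
    k2, mul_one, (hc g hg).1, (hc g hg).2 i hi, pow_mul, ← pow_mul _ T, ← hl, ← pow_mul _ l, mul_comm l,
    mul_comm T, pow_mul, ← e1]

theorem sec (hσ : σ ∈ H) (e : ∀ g ∈ N, σ * g * σ⁻¹ = τ * g * τ⁻¹) (hi : i + 3 ≤ n) (hYX : Y ≤ X)
    (hX : X ≤ E) (nX : L ≤ normalizer (X : Set Γ)) (nY : L ≤ normalizer (Y : Set Γ))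
    (c1 : ∀ g ∈ E, ∀ v ∈ X, ⁅g, v⁆ ∈ Y) (c2 : ∀ v ∈ X, v ^ p ∈ Y) (hu : u ∈ X) (u1 : u ∈ gp S i)
    (u2 : u ∉ gp S (i + 1)) (hY : ∀ w ∈ Y, w ∈ gp S i → w ∈ gp S (i + 1))
    (c3 : ∀ v ∈ X, ⁅y, v⁆ ∈ gp S (i + 1)) (c4 : ∀ v ∈ X, (fun v => ⁅y, v⁆)^[d + 1] v ∈ Y) :
    ∃ m ≤ d, ww p S i σ * a ^ m = 1 := by
  obtain ⟨r, r0, r1, hr⟩ := h.exists_r hx hi
  obtain ⟨U, _, _, _, q, π, sb, l⟩ := exists_lin2 hYX (hX.trans h.md.EL) nX nY
    (commutator_le.2 fun g hg => c1 g (hX hg)) c2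
  obtain ⟨V, _, _, _, q', ρ, sb', l'⟩ := exists_lin_om (p := p) h.md.EL h.md.norm
  have ti := ti_of_mod h.md (h.idx hx) h.md.GL' le_rfl h.yN h.yE
  obtain ⟨z, hz, z1⟩ := exists_not_mem h.prZ.idx
  obtain ⟨ψ, h1, h0⟩ := Submodule.exists_dual_map_eq_bot_of_notMem (p := sb (gp S (i + 1))) (x := q u)
    (fun H => by
      obtain ⟨w, w1, w2, w3⟩ := (l.mem _ _).1 H
      exact u2 (by simpa using mul_mem w2 (hY _ ((l.eq_iff w1 hu).1 w3)
        (mul_mem (inv_mem (gp_anti S i.le_succ w2)) u1)))) inferInstance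
  replace h0 : ∀ v w, v - w ∈ sb (gp S (i + 1)) → ψ v = ψ w := fun v w H =>
    sub_eq_zero.1 (map_sub ψ _ _ ▸ h0.le ⟨_, H, rfl⟩)
  have := ti.tw π ρ (l.iter _ c4) (l'.iter _ fun v hv => h.cZ h.yj.1.1 (h.y_om hx hv)) ψ
    (fun g hg v => by
      obtain ⟨k, hk⟩ := ti.exists_pow π (fun m hm => l.one_iff.2 (c1 m hm)) hg
      rw [hk]
      clear hk
      induction k with
      | zero => rfl
      | succ k ih =>
        obtain ⟨w, hw, e⟩ := l.surj ((π ⟨y, h.md.GL' h.yN⟩ ^ k) v)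
        rw [pow_succ', End.mul_apply, ← ih, ← e]
        exact h0 _ _ ((show π _ (q w) - q w = _ from l.cm _ hw) ▸
          l.mem_of (cm_mem_right (nX (h.md.GL' h.yN)) hw) (c3 w hw))) h1 (z := q' z)
    (fun g hg => sub_eq_zero.1 ((l'.cm_zero g (h.Zom hz)).2 (h.cZ (h.NK hg).1 hz))) (fun g hg => by
      have hg' := (mem_norm_subgroupOf h.md.GL').1 hg
      obtain ⟨δ, hδ, e⟩ := h.ext g g.2 hg'
      have nδ := h.HN hx hδ
      refine ⟨ww p S (n - 2) δ, ?_, ?_⟩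
      · simpa using (l'.ew_iff (h.Zom hz)).2 (ew_congr (e z (h.omN (h.Zom hz))).symm ((gp_bot h.mc h.h4
          (by omega)).le ((pr_w h.mc h.h4 (by omega)).wt_val (n_gp nδ _) (n_gp nδ _) z hz)))
      · have hw := conj_mem (nX g⁻¹.2) hu
        have e2 := e _ (h.md.le (hX hw))
        have := h0 _ _ (l.ew hw (ew_congr e2.symm ((pr_w h.mc h.h4 (by omega)).wt_val (n_gp nδ _)
          (n_gp nδ i) _ (mem_of_conj_mem (n_gp nδ i) (by rw [e2]; simpa [mul_assoc] using u1)))))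
        rw [← l.act g⁻¹ u hu, ← End.mul_apply, ← map_mul, mul_inv_cancel, map_one, End.one_apply] at this
        simp [hr δ nδ, this])
    (x := ⟨x, h.xL⟩) (fun H => by
      obtain ⟨c, hc⟩ := Submodule.mem_span_singleton.1 H
      have := (l'.ew_iff (g := ⟨x, h.xL⟩) (a := c.val) (h.Zom hz)).1 (by simpa using hc.symm)
      refine z1 (inv_eq_one.1 ((h.yxz (n_gp (h.HN hx hσ) _) e hz).1.symm.trans (h.cZ h.yj.1.1 ?_)))
      rw [commutatorElement_def, ← inv_mul_eq_one.1 this]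
      exact mul_mem (zpow_mem hz _) (inv_mem hz)) r0
  refine ⟨p - 1 - r, by omega, ?_⟩
  rw [← hr σ (h.HN hx hσ), h.wwZ (h.HN hx hσ) e, ← pow_add, show r + (p - 1 - r) = p - 1 by omega,
    h.prim.pow_eq_one]

theorem sec' (hσ : σ ∈ H) (e : ∀ g ∈ N, σ * g * σ⁻¹ = τ * g * τ⁻¹) (hi : i + 3 ≤ n) (h1 : i ≤ j + 2)
    (h2 : i = j ∨ i = j + 2) (d1 : 1 ≤ d) (d2 : n - 2 ≤ (d + 1) * (j + 3)) :
    ∃ m ≤ d, ww p S i σ * a ^ m = 1 := by
  obtain ⟨u, hu, u1, u2⟩ := h.pos hx (i := i) (by omega) (by omega) fun H g hg => h.eN g hg.1.1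
    (mem_normalizer_of_cm fun v hv => h.jE (gp_anti S (by omega) (commutator_le.1
      (dc h.mc h.h4 (b := 0) (Or.inl (by have := h.jn; omega))) g hg v (gp_zero S ▸ h.EK hv))))
  have nO : L ≤ normalizer (om p E : Set Γ) := fun _ hg => n_om (h.md.norm hg)
  by_cases H : ∀ w ∈ om p E, w ∈ gp S i → w ∈ gp S (i + 1)
  · obtain ⟨Y, ⟨y1, y2, y3, y4⟩, mx⟩ := Set.Finite.exists_maximal (s := {Y | om p E ≤ Y ∧ Y ≤ E ∧
      L ≤ normalizer (Y : Set Γ) ∧ ∀ w ∈ Y, w ∈ gp S i → w ∈ gp S (i + 1)}) (Set.toFinite _)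
      ⟨_, le_rfl, om_le p E, nO, H⟩
    have l := h.md.EL.trans y3
    have hY : Y ≤ up1 p E Y := fun w hw =>
      ⟨⟨y2 hw, le_normalizer hw, fun g hg => cm_mem_left (l hg) hw⟩, pow_mem hw p⟩
    have nX : L ≤ normalizer (up1 p E Y : Set Γ) := fun g hg => mem_normalizer_fintype fun v hv =>
      ⟨⟨conj_mem (h.md.norm hg) hv.1.1, conj_mem_cs (y3 hg) (h.md.norm hg) hv.1.2⟩,
        by rw [conj_pow]; exact conj_mem (y3 hg) hv.2⟩
    obtain ⟨w, w1, w2, w3, w4⟩ := exists_central_mod h.md.pE le_rfl l le_normalizer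
      fun H => u2 (y4 u (H hu) u1)
    obtain ⟨v, v1, v2, v3⟩ : ∃ v ∈ up1 p E Y, v ∈ gp S i ∧ v ∉ gp S (i + 1) := by
      by_contra! H
      exact w2 (mx ⟨y1.trans hY, fun _ h => h.1.1, nX, H⟩ hY ⟨⟨w1, l w1, fun g hg => cm_swap (w4 g hg)⟩, w3⟩)
    exact h.sec hx hσ e hi hY (fun _ h => h.1.1) nX y3 (fun g hg v hv => cm_swap (hv.1.2.2 g hg))
      (fun _ h => h.2) v1 v2 v3 y4 (fun v hv => gp_anti S (by omega) (h.yiter hv.1.1 1)) fun v hv =>
        (y1 (h.Zom (gp_anti S (by omega) (h.yiter hv.1.1 (d + 1)))))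
  · push Not at H
    obtain ⟨v, v1, v2, v3⟩ := H
    obtain ⟨m, m1, m2⟩ := h.sec hx (d := 1) hσ e hi bot_le (om_le p E) nO (norm_bot L) (fun _ a _ => cm_om a)
      (fun _ h => h.2.2) v1 v2 v3 (fun w hw _ => hw ▸ one_mem _)
      (fun v hv => gp_anti S (by omega) (h.y_om hx hv)) fun v hv => h.cZ h.yj.1.1 (h.y_om hx hv)
    exact ⟨m, m1.trans d1, m2⟩

theorem six : False := by
  have h5 := h.h5
  have jn := h.jn
  have h6 := six_le h.mc h.h4 hx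
  have od := hp.out.eq_two_or_odd
  obtain ⟨σ, hσ, e⟩ := h.ext τ h.τL h.nN
  have nσ := h.HN hx hσ
  obtain ⟨c, T, hc⟩ := h.exists_c' hx
  obtain ⟨h1, h2⟩ := hc σ nσ
  have a0 := h.prim.ne_zero (by omega)
  rw [h.wwZ nσ e] at h1
  have gen : ∀ k, wa p S σ ^ k = 1 → p - 1 ∣ k := fun k H =>
    h.prim.dvd_of_pow_eq_one k (by rw [h1, ← pow_mul, mul_comm, pow_mul, H, one_pow])
  have w1 : ww p S j σ * wa p S σ = a * a := by
    obtain ⟨c', e1, e2⟩ := h.wy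
    rw [h2 j (by omega), ← pow_succ, add_assoc, ← h2 _ (by omega), ← e1]
    exact ww_ew h.mc h.h4 nσ h.yj (fun H => h.yE (h.jE H)) (h.inf_E (ew_congr (e y h.yN) e2)
      (mul_mem (inv_mem (zpow_mem h.yj _)) (conj_mem (n_gp nσ _) h.yj)))
  have k1 : ∀ m, ww p S j σ * a ^ m = 1 → wa p S σ = a ^ (m + 2) := fun m H => by
    linear_combination (a : ZMod p) ^ m * w1 - wa p S σ * H
  by_cases H : j + 4 = n
  · obtain ⟨m, m1, m2⟩ := h.sec' hx (d := 1) hσ e (by omega) (by omega) (Or.inl rfl) le_rfl (by omega)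
    have e1 := k1 m m2
    rcases (by omega : m = 0 ∨ m = 1) with rfl | rfl
    · have := Nat.le_of_dvd (by omega) (gen ((p - 1) / 2) (by
        rw [e1, ← pow_mul, show (0 + 2) * ((p - 1) / 2) = p - 1 by omega, h.prim.pow_eq_one]))
      omega
    · have e2 := ww_last h.mc h.h4 hx nσ
      rw [h.wwZ nσ e, show n - 3 = j + 1 by omega, h2 0 (by omega)] at e2
      rw [h2 j (by omega)] at m2 w1
      have := Nat.le_of_dvd (by omega) (gen j (mul_left_cancel₀ a0 (by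
        linear_combination wa p S σ ^ j * (e2 + wa p S σ ^ c * w1) + a * m2)))
      omega
  · obtain ⟨m, m1, m2⟩ := h.sec' hx (d := (p - 2) / 3) hσ e (by omega) (by omega) (Or.inl rfl) (by omega)
      (le_trans (by omega) (Nat.mul_le_mul_left _ (Nat.le_add_left 3 j)))
    obtain ⟨m', m3, m4⟩ := h.sec' hx (d := (p - 2) / 3) hσ e (by omega) le_rfl (Or.inr rfl) (by omega)
      (le_trans (by omega) (Nat.mul_le_mul_left _ (Nat.le_add_left 3 j)))
    have e1 := k1 m m2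
    rw [h2 _ (by omega), ← add_assoc, pow_add, ← h2 _ (by omega)] at m4
    have e2 : m ≠ m' := fun e => by
      have := Nat.le_of_dvd two_pos (gen 2 (by
        subst e; linear_combination m4 - wa p S σ ^ 2 * m2))
      omega
    have e3 := h.prim.dvd_of_pow_eq_one (m + m' + 4) (by
      rw [sq, ← mul_assoc, w1, e1] at m4; linear_combination m4)
    have := Nat.le_of_dvd (by omega) e3
    rcases (by omega : p - 1 = 4 ∨ p - 1 = 6) with e | e <;> rw [e] at e3 <;> omega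

end Cg

end CfsgLib.Fus5
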