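import Mathlib
import Cfsg.Agent.Lib.Fus5.Six
import Cfsg.Agent.Lib.Fus5.Quot
import Cfsg.Agent.Lib.Fus5.Out

/-!
Essential subgroups of saturated fusion systems on groups of maximal class.
-/

set_option autoImplicit false
set_option linter.unusedSectionVars false

namespace CfsgLib.Fus5

open Subgroup Module Cfsg CfsgLib.LAE CfsgLib.Fusion CfsgLib.MaxCl CfsgLib.Fus2 CfsgLib.Fus4
open Cfsg.FusionSystem hiding inv_mem
open scoped commutatorElement

universe u

section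

variable {Γ : Type u} [Group Γ] [Finite Γ] {p n j : ℕ} [hp : Fact p.Prime]
  {S E X : Subgroup Γ} {F : FusionSystem S} {e : Γ} (m : MC S p n) (h4 : 4 ≤ n)
include m h4

theorem exists_eq'' (he : e ∈ S) (he' : e ∉ kc S 1) (hX : e ∈ normalizer (X : Set Γ))
    (hK : X ≤ kc S 1) (h : gp S (n - 2) ≤ X) : S ≤ normalizer (X : Set Γ) := by
  by_cases H : gp S (n - 3) ≤ X
  · obtain ⟨k, -, rfl⟩ := exists_eq' m h4 he he' hX hK H
    exact S_n_gp S k
  refine le_antisymm h (fun u hu => by_contra fun H' => H ?_) ▸ S_n_gp S _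
  obtain ⟨i, -, h1, h2, h3⟩ := exists_pos (gp_zero S ▸ hK hu) H'
  clear H'
  induction h5 : n - 3 - i generalizing i u with
  | zero =>
    obtain rfl : i = n - 3 := by omega
    exact sup_gp m h4 h2 h3 ▸ sup_le ((gp_anti S (by omega)).trans h) (zpowers_le.2 hu)
  | succ d ih => exact ih _ (cm_mem_left hX hu) _ (by omega) (cm_gp h2 he) (cm_not m h4 he he'
      (Or.inl (by omega)) (by omega) h2 h3) (by omega)

theorem exists_quad (h5 : 5 ≤ p) (jn : j + 4 ≤ n) (hJ : gp S (j + 2) ≤ E) (hK : E ≤ kc S 1) :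
    ∃ y ∈ gp S (j + 1), y ∉ gp S (j + 2) ∧ ∀ v ∈ om p E, ⁅y, ⁅y, v⁆⁆ = 1 := by
  obtain ⟨s, hs, sp⟩ := exists_un m h4
  obtain ⟨x, hx, hx'⟩ := exists_not_mem (idx_gp m h4 (i := j) (by omega))
  have hy := cm_swap (cm_gp hx (S.inv_mem hs.1))
  refine ⟨_, hy, fun H => Un.cm_not m h4 ⟨S.inv_mem hs.1, mt inv_mem_iff.1 hs.2.1,
    mt inv_mem_iff.1 hs.2.2⟩ (by omega) hx hx' (cm_swap H), fun v hv => ?_⟩
  by_cases H : v ∈ gp S (j + 2)
  swap
  · exact cm_eq_one (gp_le_of_normal m h4 (X := S ⊓ centralizer (gp S (j + 2))) (fun g hg =>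
      inf_normalizer_le_normalizer_inf ⟨le_normalizer hg, Core.normalizer_le_normalizer_centralizer _
        (S_n_gp S _ hg)⟩) ⟨(hK hv.1).1, centralizer_le hJ hv.2.1⟩ (hK hv.1).1 (by omega) H hy).2
      (cm_gp hy (hK hv.1).1)
  obtain ⟨k, -, ek⟩ := exists_eq_gp m h4 (X := om p (gp S (j + 2))) (fun g hg => n_om (S_n_gp S _ hg))
    ((om_le p _).trans (gp_le_kc S _))
  have hv' : v ∈ gp S k := ek.le ⟨H, centralizer_le hJ hv.2.1, hv.2.2⟩
  by_cases kn : k + 2 ≤ n
  swap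
  · simp [show v = 1 from (gp_bot m h4 (by omega)).le hv']
  have b := gp_bot m h4 (i := k + (n - 1 - k)) (by omega)
  obtain ⟨V, _, _, _, q, π, sb, l⟩ := exists_lin2 (p := p) (gp_anti S (k.le_add_right (n - 1 - k)))
    (gp_le S k) (S_n_gp S _) (S_n_gp S _) (b ▸ ek ▸ commutator_le.2 fun _ a _ => cm_om a.1)
    (b ▸ ek ▸ fun _ h => h.2.2)
  obtain ⟨e, he, he'⟩ := exists_not_mem (idx_gp m h4 kn)
  have kE : ∀ g : S, g.1 ∈ gp S (j + 2) → π.toHomUnits g = 1 := fun g hg =>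
    Units.ext (l.one_iff.2 fun e he => b.ge (cm_om hg (ek.ge he)))
  have fl := fun g : S => l.fl (g := g) (W := fun t => gp S (k + t)) (k := 1) fun t e _ he =>
    cm_swap (cm_gp he g.2)
  lift s to S using hs.1
  lift x to S using hx.1.1
  have c : ∀ g : S, Commute (π.toHomUnits ⁅s⁻¹, x⁆) (π.toHomUnits g) := fun g => by
    rw [← commutatorElement_eq_one_iff_commute, ← map_commutatorElement]
    exact kE _ (cm_gp hy g.2)
  have := Flag.quad_of (s := π.toHomUnits s) (x := π.toHomUnits x) (l.flag m h4 (by omega) hs he he')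
    (map_pow π.toHomUnits s p ▸ kE _ (gp_anti S (by omega) sp)) (fl x) (fl _)
    (by rw [← map_mul, ← map_mul, ← map_mul]; congr 1; group) (c s) (c x)
  replace this := LinearMap.congr_fun this (q v)
  rw [sq, End.mul_apply, MonoidHom.coe_toHomUnits, l.cm _ hv'] at this
  exact b.le ((l.cm_zero _ (cm_mem_right (l.nX ⁅s⁻¹, x⁆.2) hv')).1 this)

theorem case_in (ih : 5 ≤ n → IH.{u} p (n - 1)) (hl : LR p F) (hE : F.IsEssential p E)
    (hK : E ≤ kc S 1) (mx : ∀ R, F.IsEssential p R → Nat.card E < Nat.card R →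
      R ≤ kc S 1 ∨ R ≤ kc S (n - 3) → R = kc S 1 ∨ R = kc S (n - 3)) : E = kc S 1 := by
  classical
  by_contra hne
  have pp := hp.out.one_lt
  rcases h4.eq_or_lt with h5 | h5
  · obtain ⟨g, hg, hg'⟩ := exists_not_mem (idx_gp m h4 (i := 0) (by omega))
    have k := fun a b (e : a + b = 1) => (dc m h4 (a := a) (b := b) (Or.inr (by rw [← h5]))).trans
      (gp_bot m h4 (by omega)).le
    have := comm_le_of_elt m h4 (norm_bot S) (k _ _ rfl) (k _ _ rfl) hg hg' hg hg' (by simp)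
    rw [gp_zero] at this
    exact hne (le_antisymm hK fun x hx => centric_centralizerIn_le hE.1 ⟨hx.1,
      mem_centralizer_of_cm fun y hy => commutator_le.1 this x hx y (hK hy)⟩)
  obtain ⟨L, h⟩ := hl.ex E hE.1 hE.2.1
  obtain ⟨M, M1, M2, spe⟩ := AMod.exists_spe h hl hE
  have II := cen_le (ih h5) m h5 hl hE h M1 spe hK hne
  have hZ := Z_le m h4 hE.1
  have sp : Sp p (normalizerIn S E) E L M := ⟨h.toMod, (subgroupOf_mono L inf_le_left).trans M1, M2, spe,
    fun g hg => II g (centralizer_le (show gp S (n - 2) ≤ om p E from fun z hz => ⟨hZ hz, centralizer_le hE.1.1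
      ((center_eq m h4).ge hz).2, (gp_bot m h4 (by omega)).le (pow_gp m h4 (by omega) hz)⟩) hg)⟩
  by_cases p5 : 5 ≤ p
  swap
  · have := hp.out.eq_two_or_odd
    obtain ⟨y, y1, y2, y3⟩ := exists_mem_normalizer_notMem (hl.pS.to_le (kc_le S 1)) (hK.lt_of_ne hne)
    exact y3 (sp.mem_E ⟨y1.1, y2⟩ (centralizer_le (fun v hv => gp_anti S (by omega)
      (mem_gp_of_pow m h4 (by omega) (hK hv.1) hv.2.2)) ((kc_last m h4).le
        ((kc_eq_of_big m h4 (by omega)).ge y1)).2))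
  have nn : ¬ S ≤ normalizer (E : Set Γ) := fun H => hne ((eq_or_eq_prime
    (LR.normal_essential hl p5 m h4 hE H).1 hK (kc_le S 1)).resolve_right
      fun e => not_le_of_relIndex_prime (idx_kc m h4) e.ge).symm
  have NK : normalizerIn S E ≤ kc S 1 := fun u hu => by_contra fun H =>
    nn (exists_eq'' m h4 hu.1 H hu.2 hK hZ)
  have hJ : ∃ J, gp S J ≤ E := ⟨_, hZ⟩
  obtain ⟨j, ej⟩ : ∃ j, Nat.find hJ = j + 2 := ⟨Nat.find hJ - 2, by_contra fun H =>
    nn (le_normalizer_of_cm fun g hg x hx => Nat.find_spec hJ (gp_anti S (by omega)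
      (cm_swap (cm_gp (gp_zero S ▸ hK hx) hg))))⟩
  have jn := ej ▸ Nat.find_min' hJ hZ
  have jE := ej ▸ Nat.find_spec hJ
  obtain ⟨y, y1, y2, y3⟩ := exists_quad m h4 p5 (by omega) jE hK
  have yE : y ∉ E := fun H => Nat.find_min hJ (m := j + 1) (by omega)
    (sup_gp m h4 y1 y2 ▸ sup_le jE (zpowers_le.2 H))
  obtain ⟨a, b, ab, gen⟩ := exists_gen p
  have ab' : (a : ZMod p) * b = 1 := by exact_mod_cast ab
  have prim : IsPrimitiveRoot (a : ZMod p) (p - 1) := ⟨ZMod.pow_card_sub_one_eq_one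
    (left_ne_zero_of_mul_eq_one ab'), gen⟩
  obtain ⟨x, xM, τ, τL, tor⟩ := sp.tor p5 ⟨y1.1.1, mem_normalizer_of_cm fun _ hx =>
    jE (cm_gp y1 (hK hx).1)⟩ yE (fun g hg => jE (cm_swap (cm_gp y1 hg.1))) y3 ab (prim.ne_one (by omega))
  obtain ⟨H, hH⟩ := hl.ex _ (centric_of_le hE.1 hK (kc_le S 1))
    (fullyNormalized_of_le_normalizer (kc_le S 1) fun _ hg => n_kc (le_normalizer hg) 1)
  have eN := normalizerIn_eq fun _ (hg : _ ∈ S) => n_kc (le_normalizer hg) 1
  have lt := essential_lt_normalizerIn hl.pS hl.sat hE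
  have cg : Cg p n j S _ E L H y x τ a b := ⟨tor, m, p5, h.toMod, fun _ a b => ⟨a, b⟩, NK, by omega, jE,
    y1, yE, x.2, fun H => xM (II x H), τL, prim, ab', by simpa only [eN] using hH.toMod, fun δ hδ nδ => by
    obtain ⟨T, -, hT, hT'⟩ := hl.exists_top
    obtain ⟨g, g1, g2, g3⟩ := ext_T hl (kc_le S 1) (fun f hf => by
        obtain ⟨σ, hσ, e⟩ := hT' f hf
        exact (img_congr fun x hx => e x (kc_le S 1 hx)).trans (img_conj_of_mem_normalizer (n_kc (hT.norm hσ) 1)))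
      (Φ := fun P => ∃ g, Mor F (kc S 1) g ∧ img (kc S 1) g = kc S 1 ∧ P = img (normalizerIn S E) g)
      (fun P ⟨g, _, e, e'⟩ => e' ▸ e ▸ img_mono g NK)
      (fun P f ⟨g, g1, e, e'⟩ f1 f2 => ⟨f ∘ g, g1.comp f1 fun x hx => e ▸ mem_img_of_mem g hx,
        by rw [← g1.img_img, e, f2], by rw [e', (g1.mono NK).img_img]⟩)
      (fun R P hR l ⟨g, g1, e, e'⟩ => by_contra fun H => by
        have c1 := card_le_of_le' (le_inf l (e' ▸ e ▸ img_mono g NK))
        rw [e', g1.card_img_of_le NK] at c1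
        by_cases r : R ≤ kc S 1 ∨ R ≤ kc S (n - 3)
        · obtain rfl := (mx R hR ((card_lt_of_lt' lt).trans_le (c1.trans (card_le_of_le' inf_le_left)))
            r).resolve_left H
          have e2 := g1.img_normalizerIn_eq hK NK hE.2.1
          exact not_le_one m h4 (six_of_C m h4 hl H hR) H (centric_of_isConj hE.1 (g1.mono hK).isConj)
            (C_inf m h4 H ▸ le_inf (((img_mono g lt.le).trans e'.ge).trans l) (e ▸ img_mono g hK))
            (e2 ▸ e' ▸ l)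
        · push Not at r
          have c2 := Core.card_mul_relIndex_of_le (inf_le_left (a := R) (b := kc S 1))
          rw [idx_inf m h4 hR.1.1 r.1] at c2
          have c3 : Nat.card R ≤ p ^ 2 * p := by
            rcases pearl m h4 hl hR r.1 r.2 with e | ⟨e, -⟩
            exacts [e ▸ Nat.le_mul_of_pos_right _ hp.out.pos, e.le]
          obtain ⟨r1, e1⟩ := exists_card_eq (hl.pS.to_le hE.1.1)
          obtain ⟨r2, e2⟩ := exists_card_eq h.pG
          have c4 := card_lt_of_lt' lt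
          have c5 := card_lt_of_lt' (hZ.lt_of_ne fun e => nn (e ▸ S_n_gp S _))
          rw [e1, card_gp m h4, Nat.pow_lt_pow_iff_right pp] at c5
          rw [e1, e2, Nat.pow_lt_pow_iff_right pp] at c4
          exact not_pow_le (e2 ▸ c1.trans (Nat.le_of_mul_le_mul_right (c2.le.trans c3) hp.out.pos))
            (by omega))
      (h.mor _ le_rfl δ hδ fun x => conj_mem nδ) ⟨id, Mor.id F (kc_le S 1), img_id _, (img_id _).symm⟩
    obtain ⟨σ, hσ, e⟩ := hH.lift _ g le_rfl hH.le g1 g2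
    exact ⟨σ, hσ, fun x hx => (e x (NK hx)).symm.trans (g3 x hx)⟩⟩
  by_cases hC : kc S (n - 3) = kc S 1
  exacts [cg.five hC, cg.six hC]

theorem main_lr (ih : 5 ≤ n → IH.{u} p (n - 1)) (hl : LR p F) (hE : F.IsEssential p E) :
    (E ≤ kc S 1 → E = kc S 1) ∧ (E ≤ kc S (n - 3) → ¬ E ≤ kc S 1 → E = kc S (n - 3)) := by
  induction h : Nat.card S - Nat.card E using Nat.strong_induction_on generalizing E with
  | _ d H =>
  have mx : ∀ R, F.IsEssential p R → Nat.card E < Nat.card R → R ≤ kc S 1 ∨ R ≤ kc S (n - 3) →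
      R = kc S 1 ∨ R = kc S (n - 3) := fun R hR c r => by
    have := card_le_of_le' hR.1.1
    have := H _ (by omega) hR rfl
    tauto
  exact ⟨fun hK => case_in m h4 ih hl hE hK mx,
    fun h1 h2 => case7 m h4 hl hE h1 h2 fun R hR c r => mx R hR c (Or.inr r)⟩

end

theorem fac_le_kc {Ω Γ : Type*} [Group Ω] [Group Γ] {S E : Subgroup Ω} {F : FusionSystem S} {t : Ω → Γ}
    {F' : FusionSystem (img S t)} {i : ℕ} (h : IsFactor F ⊥ t F') (hE : E ≤ S) :
    img E t ≤ kc (img S t) i ↔ E ≤ kc S i :=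
  img_le_iff.trans (forall₂_congr fun _ hx => fac_mem_kc h (hE hx))

theorem ih_all (p : ℕ) [Fact p.Prime] (n : ℕ) (h4 : 4 ≤ n) : IH.{u} p n := by
  induction n, h4 using Nat.le_induction with
  | base => ?_
  | succ n h4 ih => ?_
  all_goals
    intro Ω _ _ S E F m hF hE hK
    obtain ⟨Γ, _, _, t, S', F', h, hl⟩ := exists_LR m.pgroup hF
    obtain rfl := h.img_eq
    exact (fac_eq_kc h hE.1.1).1 ((main_lr (m.equiv (facEquiv h le_rfl)) (by omega)
      (fun _ => by first | omega | exact ih) hl (h.iso_essential hE)).1 ((fac_le_kc h hE.1.1).2 hK))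

theorem main {Ω : Type u} [Group Ω] {S E : Subgroup Ω} [Finite S] {F : FusionSystem S} {p n : ℕ}
    [hp : Fact p.Prime] (m : MC S p n) (h4 : 4 ≤ n) (hF : F.IsSaturated p) (hE : F.IsEssential p E) :
    ((E = kc S 1 ∨ E = kc S (n - 3)) ∧ Nat.card E = p ^ (n - 1) ∧
      (kc S 1 ≠ kc S (n - 3) → 6 ≤ n)) ∨ Nat.card E = p ^ 2 ∨
      (Nat.card E = p ^ 3 ∧ ¬ IsMulCommutative E ∧ kc S 1 = kc S (n - 3)) := by
  obtain ⟨Γ, _, _, t, S', F', h, hl⟩ := exists_LR m.pgroup hF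
  obtain rfl := h.img_eq
  have hle := hE.1.1
  have m' := m.equiv (facEquiv h le_rfl)
  have hE' := h.iso_essential hE
  obtain ⟨h1, h2⟩ := main_lr m' h4 (fun _ => ih_all p _ (by omega)) hl hE'
  have e : kc S 1 = kc S (n - 3) ↔ kc (img S t) (n - 3) = kc (img S t) 1 := by
    rw [← (fac_eq_kc h (kc_le S 1)).2 rfl, eq_comm (b := img _ _), fac_eq_kc h (kc_le S 1)]
  rw [← fac_eq_kc h hle, ← fac_eq_kc h hle, ← h.iso_card hle, Ne, e]
  have c : ∀ X ≤ img S t, X.relIndex (img S t) = p → Nat.card X = p ^ (n - 1) := fun X a =>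
    card_eq_of_relIndex' a (by rw [m'.card, ← pow_succ]; congr 1; omega)
  by_cases r1 : img E t ≤ kc (img S t) 1
  · exact Or.inl ⟨Or.inl (h1 r1), h1 r1 ▸ c _ (kc_le _ _) (idx_kc m' h4), fun H => (six_le m' h4 H).1⟩
  by_cases r2 : img E t ≤ kc (img S t) (n - 3)
  · exact Or.inl ⟨Or.inr (h2 r2 r1), h2 r2 r1 ▸ c _ (kc_le _ _) (idx_kc' m' h4),
      fun H => (six_le m' h4 H).1⟩
  exact Or.inr ((pearl m' h4 hl hE' r1 r2).imp_right fun H => ⟨H.1, fun H' =>
    H.2 (comm_of_equiv (facEquiv h hle) H'), by_contra fun hx => no_cube m' h4 hl hx hE' r1 r2 H.1 H.2⟩)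

end CfsgLib.Fus5
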